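import Groth.Agent.RelNorm.Stab

/-!
# Stable normalizations over disjoint unions
-/

set_option autoImplicit false
set_option backward.isDefEq.respectTransparency false
set_option backward.isDefEq.respectTransparency.types false

universe u

open CategoryTheory CategoryTheory.Limits AlgebraicGeometry AlgSp Groth.Agent.AlgSpLib Groth.Agent.AlgSpDec

namespace Groth.Agent.RelNorm

variable {S : Scheme.{u}} {ι : Type u}

theorem isPullback_sigmaMap {T N : ι → Over S} (ν : ∀ i, N i ⟶ T i) {νs : sigmaOver N ⟶ sigmaOver T}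
    (h : ∀ i, sigmaι N i ≫ νs = ν i ≫ sigmaι T i) (i : ι) :
    IsPullback (sigmaι N i) (ν i) νs (sigmaι T i) := by
  refine IsPullback.of_map (Over.forget S) (h i) ?_
  have hw : ∀ j, (sigmaι N j).left ≫ νs.left = (ν j).left ≫ (sigmaι T j).left := fun j => by
    rw [← Over.comp_left, h, Over.comp_left]
  refine (IsOpenImmersion.isPullback (ν i).left (sigmaι N i).left (sigmaι T i).left νs.left (hw i) ?_).flip
  refine TopologicalSpace.Opens.ext (Set.ext fun w => ?_)
  constructor
  · rintro ⟨t, ht⟩
    obtain ⟨j, v, rfl⟩ := exists_sigmaι N w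
    rw [← Scheme.Hom.comp_apply, hw, Scheme.Hom.comp_apply] at ht
    obtain rfl := sigmaι_injective T ht
    exact ⟨v, rfl⟩
  · rintro ⟨v, rfl⟩
    refine ⟨(ν i).left v, ?_⟩
    simp only [← Scheme.Hom.comp_apply, hw]

/-- Stable normalizations over the members of a disjoint union glue. -/
theorem exists_stabNorm_sigma {T : ι → Over S} {P : Sp S} (q : P ⟶ (yon S).obj (sigmaOver T))
    (h : ∀ i, ∃ (N : Over S) (ν : N ⟶ T i) (f' : pullback q ((yon S).map (sigmaι T i)) ⟶ (yon S).obj N),
      IsIntegralHom ν.left ∧ StabNorm (pullback.snd q ((yon S).map (sigmaι T i))) ((yon S).map ν) f') :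
    ∃ (N : Over S) (ν : N ⟶ sigmaOver T) (f' : P ⟶ (yon S).obj N),
      IsIntegralHom ν.left ∧ StabNorm q ((yon S).map ν) f' := by
  choose N ν f hν hf using h
  let νs : sigmaOver N ⟶ sigmaOver T := Over.homMk (Sigma.desc fun i => (ν i).left ≫ (sigmaι T i).left) (by
    apply Sigma.hom_ext
    intro i
    change Sigma.ι _ i ≫ Sigma.desc _ ≫ (sigmaOver T).hom = Sigma.ι _ i ≫ Sigma.desc _
    rw [Sigma.ι_desc_assoc, Sigma.ι_desc, Category.assoc, Over.w (sigmaι T i)]
    exact Over.w (ν i))
  have hνs : ∀ i, sigmaι N i ≫ νs = ν i ≫ sigmaι T i := fun i => Over.OverMorphism.ext (Sigma.ι_desc _ i)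
  have sqν := isPullback_sigmaMap ν hνs
  have hint : IsIntegralHom νs.left := by
    rw [IsZariskiLocalAtTarget.iff_of_openCover (P := @IsIntegralHom) (sigmaOpenCover fun i => (T i).left)]
    intro i
    have sq : IsPullback (sigmaι N i).left (ν i).left νs.left (sigmaι T i).left := (sqν i).map (Over.forget S)
    exact (MorphismProperty.cancel_left_of_respectsIso @IsIntegralHom sq.isoPullback.hom _).1
      (by show IsIntegralHom (sq.isoPullback.hom ≫ pullback.snd νs.left (sigmaι T i).left)
          rw [sq.isoPullback_hom_snd]; exact hν i)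
  let C : ∀ T' : Over S, ((yon S).obj T' ⟶ (yon S).obj (sigmaOver T)) → Prop :=
    fun T' c => ∃ i, ∃ e : T' ⟶ T i, IsIso e ∧ c = (yon S).map (e ≫ sigmaι T i)
  have hC : Covers C := by
    refine ⟨fun T' c => ?_, fun x => ?_⟩
    · rintro ⟨i, e, he, rfl⟩
      exact (repWith_yon_map_iff _ _).2 (inferInstanceAs (Etale (e.left ≫ (sigmaι T i).left)))
    · obtain ⟨w, rfl⟩ := (Points.schemeHomeo (sigmaOver T)).surjective x
      obtain ⟨i, v, rfl⟩ := exists_sigmaι T w
      refine ⟨T i, _, ⟨i, 𝟙 _, inferInstance, rfl⟩, v, ?_⟩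
      rw [Category.id_comp, Points.ofPt_eq_map_ofScheme]
      exact Points.map_yon_map_apply (sigmaι T i) v
  have key : ∀ (V : Over S) (i j : ι) (z : (yon S).obj V ⟶ pullback q ((yon S).map (sigmaι T i)))
      (z' : (yon S).obj V ⟶ pullback q ((yon S).map (sigmaι T j))), z ≫ pullback.fst _ _ = z' ≫ pullback.fst _ _ →
      z ≫ f i ≫ (yon S).map (sigmaι N i) = z' ≫ f j ≫ (yon S).map (sigmaι N j) := by
    intro V i j z z' hz
    obtain ⟨m, hm⟩ := (yon S).map_surjective (z ≫ pullback.snd _ _)
    obtain ⟨m', hm'⟩ := (yon S).map_surjective (z' ≫ pullback.snd _ _)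
    have hmm : m ≫ sigmaι T i = m' ≫ sigmaι T j := (yon S).map_injective (by
      rw [Functor.map_comp, Functor.map_comp, hm, hm', Category.assoc, Category.assoc, ← pullback.condition,
        ← pullback.condition, reassoc_of% hz])
    by_cases hij : i = j
    · subst hij
      have : Mono (sigmaι T i) := (Over.forget S).mono_of_mono_map
        (inferInstanceAs (Mono (sigmaι T i).left))
      rw [cancel_mono] at hmm
      rw [pullback.hom_ext hz (by rw [← hm, ← hm', hmm])]
    · have : IsEmpty ↥V.left := ⟨fun v => hij (sigmaι_injective T (v := m.left v) (w := m'.left v) (by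
        rw [← Scheme.Hom.comp_apply, ← Scheme.Hom.comp_apply, ← Over.comp_left, ← Over.comp_left, hmm]))⟩
      exact hom_ext_of_isEmpty _ _
  choose ic ec hec hce using fun T' c (hc : C T' c) => hc
  let l : ∀ T' c (hc : C T' c), pullback q c ⟶ pullback q ((yon S).map (sigmaι T (ic T' c hc))) :=
    fun T' c hc => pullback.lift (pullback.fst q c) (pullback.snd q c ≫ (yon S).map (ec T' c hc))
      (by rw [Category.assoc, ← Functor.map_comp, ← hce T' c hc, pullback.condition])
  obtain ⟨F, hF⟩ := exists_glue hC q (fun T' c hc => l T' c hc ≫ f _ ≫ (yon S).map (sigmaι N _))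
    fun T' c hc T'' c' hc' V y y' e => by
      rw [← Category.assoc y, ← Category.assoc y']
      exact key V _ _ _ _ (by simp [l, e])
  have hFi : ∀ i, pullback.fst q ((yon S).map (sigmaι T i)) ≫ F = f i ≫ (yon S).map (sigmaι N i) := fun i => by
    have hc : C (T i) ((yon S).map (sigmaι T i)) := ⟨i, 𝟙 _, inferInstance, by rw [Category.id_comp]⟩
    rw [hF _ _ hc]
    exact Groth.Agent.AlgStLib.SheafGlue.hom_ext_points fun V z => by
      rw [← Category.assoc z (l _ _ hc)]
      exact key V _ _ _ z (by simp [l])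
  have hfac : F ≫ (yon S).map νs = q := hom_ext_of_covers hC q fun T' c hc => by
    rw [← Category.assoc, hF T' c hc, Category.assoc, Category.assoc, ← Functor.map_comp, hνs, Functor.map_comp,
      reassoc_of% (hf (ic T' c hc)).fac, pullback.lift_snd_assoc, Category.assoc, ← Functor.map_comp,
      ← hce T' c hc, pullback.condition]
  refine ⟨sigmaOver N, νs, F, hint, hfac,
    isIntegralMor_iff_repWith.2 ((repWith_yon_map_iff @IsIntegralHom νs).2 hint), fun T' c hc => hc.1, fun x => ?_⟩
  obtain ⟨w, rfl⟩ := (Points.schemeHomeo (sigmaOver T)).surjective x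
  obtain ⟨i, v, rfl⟩ := exists_sigmaι T w
  obtain ⟨T', c, hc, t, ht⟩ := (hf i).covers.covers (Points.ofScheme (T i) v)
  refine ⟨T', c ≫ (yon S).map (sigmaι T i), ?_, t, ?_⟩
  · exact Good.ofBaseChange (IsPullback.of_hasPullback q _) ((sqν i).map (yon S)) (hf i).fac
      (hFi i).symm (repWith_comp hc.1 ((repWith_yon_map_iff _ _).2 (inferInstanceAs (Etale (sigmaι T i).left)))) hc
  · rw [← Points.map_ofPt, ht]
    exact Points.map_yon_map_apply (sigmaι T i) v

end Groth.Agent.RelNorm
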