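import Groth.Agent.RelNorm.Basic
import Groth.Agent.AlgSpDec.Glue
import Groth.Agent.AlgSpLib.Points
import Groth.Agent.AlgStLib.SheafGlue

/-!
# Gluing maps of sheaves along a family of etale charts of the base
-/

set_option autoImplicit false
set_option backward.isDefEq.respectTransparency false
set_option backward.isDefEq.respectTransparency.types false

universe u

open CategoryTheory CategoryTheory.Limits AlgebraicGeometry AlgSp Groth.Agent.AlgSpLib Groth.Agent.AlgSpDec
open Groth.Agent.AlgStLib.SheafGlue (homOfPoints comp_homOfPoints hom_ext_points existsUnique_glue)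

namespace Groth.Agent.RelNorm

variable {S : Scheme.{u}}

/-- A predicate on etale charts of `G` whose members cover `G`. -/
structure Covers {G : Sp S} (C : ∀ T : Over S, ((yon S).obj T ⟶ G) → Prop) : Prop where
  etale : ∀ T c, C T c → RepWith @Etale c
  covers : ∀ x : Points G, ∃ T c, C T c ∧ ∃ t : ↥T.left, Points.ofPt c t = x

/-- The maps into `W` through which a point factors through a chart. -/
def factorSieve {G : Sp S} (C : ∀ T : Over S, ((yon S).obj T ⟶ G) → Prop) {W : Over S}
    (t : (yon S).obj W ⟶ G) : Sieve W where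
  arrows V k := ∃ T c, C T c ∧ ∃ m : V ⟶ T, (yon S).map m ≫ c = (yon S).map k ≫ t
  downward_closed := by
    rintro V V' k ⟨T, c, hC, m, hm⟩ g
    exact ⟨T, c, hC, g ≫ m, by rw [Functor.map_comp, Functor.map_comp, Category.assoc, hm, Category.assoc]⟩

theorem factorSieve_mem {G : Sp S} {C : ∀ T : Over S, ((yon S).obj T ⟶ G) → Prop} (hC : Covers C)
    {W : Over S} (t : (yon S).obj W ⟶ G) : factorSieve C t ∈ J S W := by
  choose T c hc u hu using fun w : ↥W.left => hC.covers (Points.ofPt t w)
  let V : ↥W.left → Over S := fun w => (hC.etale _ _ (hc w)).rep.pullback t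
  let k : ∀ w, V w ⟶ W := fun w => (hC.etale _ _ (hc w)).rep.snd t
  have hk : ∀ w, Etale (k w).left := fun w => (hC.etale _ _ (hc w)).property_snd t
  have hmem : ∀ w, (factorSieve C t) (k w) := fun w =>
    ⟨T w, c w, hc w, (hC.etale _ _ (hc w)).rep.fst' t, ((hC.etale _ _ (hc w)).rep.isPullback' t).w⟩
  let φ : sigmaOver V ⟶ W := CategoryTheory.Over.homMk (Sigma.desc fun w => (k w).left) (by
    apply Sigma.hom_ext
    intro w
    change Sigma.ι _ w ≫ Sigma.desc _ ≫ W.hom = Sigma.ι _ w ≫ Sigma.desc _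
    rw [Sigma.ι_desc_assoc, Sigma.ι_desc]
    exact Over.w _)
  have hφ : ∀ w, sigmaι V w ≫ φ = k w := fun w => Over.OverMorphism.ext (Sigma.ι_desc _ w)
  have : Etale φ.left := by
    refine IsZariskiLocalAtSource.of_openCover (sigmaOpenCover fun w => (V w).left) fun w => ?_
    change Etale (Sigma.ι (fun w => (V w).left) w ≫ Sigma.desc _)
    rw [Sigma.ι_desc]
    exact hk w
  have : Surjective φ.left := ⟨fun w => by
    have e : Points.map (c w) (Points.ofScheme _ (u w)) = Points.map t (Points.ofScheme _ w) := by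
      rw [← Points.ofPt_eq_map_ofScheme, ← Points.ofPt_eq_map_ofScheme, hu]
    obtain ⟨z, -, hz⟩ := exists_point_of_isPullback ((hC.etale _ _ (hc w)).rep.isPullback t) e
    obtain ⟨v, rfl⟩ := (Points.schemeHomeo (V w)).surjective z
    rw [Points.map_yon_map_apply] at hz
    refine ⟨(sigmaι V w).left v, ?_⟩
    rw [← Scheme.Hom.comp_apply, ← Over.comp_left, hφ]
    exact (Points.schemeHomeo W).injective hz⟩
  refine (J S).transitive (mem_J_of_fppf φ (fppf_of_etale φ.left) (Sieve.generate (Presieve.singleton φ))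
    ⟨_, 𝟙 _, φ, Presieve.singleton_self φ, Category.id_comp _⟩) _ ?_
  rintro X f ⟨_, g, _, ⟨⟩, rfl⟩
  rw [Sieve.pullback_comp]
  refine (J S).pullback_stable g ?_
  refine (J S).superset_covering (S := Sieve.ofArrows _ (sigmaι V)) ?_ (mem_J_of_openCover
    (sigmaOpenCover fun w => (V w).left) _ fun w => ?_)
  · rw [Sieve.ofArrows, Sieve.generate_le_iff]
    rintro _ _ ⟨w⟩
    show factorSieve C t (sigmaι V w ≫ φ)
    rw [hφ]
    exact hmem w
  · let e : Over.mk ((sigmaOpenCover fun w => (V w).left).f w ≫ (sigmaOver V).hom) ⟶ V w :=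
      CategoryTheory.Over.homMk (𝟙 (V w).left) (by
        change 𝟙 _ ≫ (V w).hom = Sigma.ι (fun w => (V w).left) w ≫ Sigma.desc _
        rw [Sigma.ι_desc, Category.id_comp])
    convert (Sieve.ofArrows _ (sigmaι V)).downward_closed (Sieve.ofArrows_mk _ _ w) e using 1
    apply Over.OverMorphism.ext
    change (sigmaOpenCover fun w => (V w).left).f w = 𝟙 _ ≫ Sigma.ι (fun w => (V w).left) w
    rw [Category.id_comp]
    rfl

/-- Maps out of a space over `G` which agree over charts covering `G` are equal. -/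
theorem hom_ext_of_covers {G : Sp S} {C : ∀ T : Over S, ((yon S).obj T ⟶ G) → Prop} (hC : Covers C)
    {P Z : Sp S} (π : P ⟶ G) {h h' : P ⟶ Z}
    (e : ∀ T c, C T c → pullback.fst π c ≫ h = pullback.fst π c ≫ h') : h = h' := by
  refine hom_ext_points fun W x => hom_ext_of_covering _ _ (factorSieve_mem hC (x ≫ π)) ?_
  rintro V k ⟨T, c, hc, m, hm⟩
  have := congrArg (pullback.lift (f := π) (g := c) ((yon S).map k ≫ x) ((yon S).map m)
    (by rw [Category.assoc, hm]) ≫ ·) (e T c hc)
  simpa only [← Category.assoc, pullback.lift_fst] using this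

/-- Maps given over charts covering `G` and agreeing on common points glue. -/
theorem exists_glue {G : Sp S} {C : ∀ T : Over S, ((yon S).obj T ⟶ G) → Prop} (hC : Covers C)
    {P Z : Sp S} (π : P ⟶ G) (h : ∀ T c, C T c → (pullback π c ⟶ Z))
    (agree : ∀ T c (hc : C T c) T' c' (hc' : C T' c') (V : Over S) (y : (yon S).obj V ⟶ pullback π c)
      (y' : (yon S).obj V ⟶ pullback π c'), y ≫ pullback.fst π c = y' ≫ pullback.fst π c' →
        y ≫ h T c hc = y' ≫ h T' c' hc') :
    ∃ H : P ⟶ Z, ∀ T c (hc : C T c), pullback.fst π c ≫ H = h T c hc := by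
  choose T c hc m hm using fun (W : Over S) (x : (yon S).obj W ⟶ P) (V : Over S) (k : V ⟶ W)
    (hk : factorSieve C (x ≫ π) k) => hk
  let y : ∀ W x V k hk, (yon S).obj V ⟶ pullback π (c W x V k hk) := fun W x V k hk =>
    pullback.lift ((yon S).map k ≫ x) ((yon S).map (m W x V k hk)) (by rw [Category.assoc, hm])
  let r0 : ∀ W x V k hk, (yon S).obj V ⟶ Z := fun W x V k hk => y W x V k hk ≫ h _ _ (hc W x V k hk)
  have key : ∀ W x V k hk T' c' (hc' : C T' c') (y' : (yon S).obj V ⟶ pullback π c'),
      y' ≫ pullback.fst π c' = (yon S).map k ≫ x → r0 W x V k hk = y' ≫ h T' c' hc' :=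
    fun W x V k hk T' c' hc' y' hy' => agree _ _ _ _ _ _ V _ y' (by rw [hy', pullback.lift_fst])
  have hglue : ∀ (W : Over S) (x : (yon S).obj W ⟶ P), ∃! r : (yon S).obj W ⟶ Z,
      ∀ ⦃V : Over S⦄ (k : V ⟶ W) (hk : factorSieve C (x ≫ π) k), (yon S).map k ≫ r = r0 W x V k hk :=
    fun W x => existsUnique_glue (factorSieve_mem hC (x ≫ π)) _ fun V' V g k hk => by
      rw [key W x V' (g ≫ k) _ _ _ (hc W x V k hk) ((yon S).map g ≫ y W x V k hk)
        (by rw [Category.assoc, pullback.lift_fst, Functor.map_comp, Category.assoc]), Category.assoc]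
  choose r hr hru using hglue
  let H : P ⟶ Z := homOfPoints r fun W' W g x => by
    refine hom_ext_of_covering _ _ (factorSieve_mem hC (((yon S).map g ≫ x) ≫ π)) fun V k hk => ?_
    have hk' : factorSieve C (x ≫ π) (k ≫ g) := by
      obtain ⟨T, c, hC', m, hm⟩ := hk
      exact ⟨T, c, hC', m, by rw [hm, Functor.map_comp, Category.assoc, Category.assoc]⟩
    rw [hr W' _ k hk, ← Functor.map_comp_assoc, hr W x (k ≫ g) hk']
    exact key W' _ V k hk _ _ _ _ (by rw [pullback.lift_fst, Functor.map_comp, Category.assoc])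
  refine ⟨H, fun T' c' hc' => hom_ext_points fun W z => ?_⟩
  rw [← Category.assoc, comp_homOfPoints]
  refine hom_ext_of_covering _ _ (factorSieve_mem hC ((z ≫ pullback.fst π c') ≫ π)) fun V k hk => ?_
  rw [hr W _ k hk, key W _ V k hk T' c' hc' ((yon S).map k ≫ z) (by rw [Category.assoc]), Category.assoc]

end Groth.Agent.RelNorm
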