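import Groth.Agent.RelNorm.Stab
import Groth.Agent.AlgSpDec.LqfScheme
import Groth.Agent.AlgSpDec.LqfSplitZ
import Groth.Agent.AlgSpLib.CartierRegular
import Groth.Agent.AlgSpPts.Sep
import Groth.Agent.AlgSpPts.Misc
import Mathlib.AlgebraicGeometry.Normalization

/-!
# Normalization of an affine scheme in a quasi-compact quasi-separated algebraic space
-/

set_option autoImplicit false
set_option backward.isDefEq.respectTransparency false
set_option backward.isDefEq.respectTransparency.types false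

universe u

open CategoryTheory CategoryTheory.Limits AlgebraicGeometry AlgSp Groth.Agent.AlgSpLib Groth.Agent.AlgSpDec
  Groth.Agent.AlgSpPts

namespace Groth.Agent.RelNorm

/-- Universal property of the normalization of schemes. -/
def IntUniv {V M T : Scheme.{u}} (g : V ⟶ M) (m : M ⟶ T) : Prop :=
  ∀ ⦃Z : Scheme.{u}⦄ (τ : Z ⟶ T), IsIntegralHom τ → ∀ (γ : V ⟶ Z), γ ≫ τ = g ≫ m →
    ∃! h : M ⟶ Z, g ≫ h = γ ∧ h ≫ τ = m

theorem intUniv_normalization {V T : Scheme.{u}} (f : V ⟶ T) [QuasiCompact f] [QuasiSeparated f] :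
    IntUniv f.toNormalization f.fromNormalization := by
  intro Z τ hτ γ hγ
  rw [f.toNormalization_fromNormalization] at hγ
  refine ⟨f.normalizationDesc γ τ hγ.symm, ⟨f.toNormalization_normalizationDesc _ _ _,
    f.normalizationDesc_comp _ _ _⟩, fun h hh => ?_⟩
  refine Scheme.Hom.normalization.hom_ext f _ _ τ ?_ hh.2 (f.normalizationDesc_comp _ _ _)
  rw [hh.1, f.toNormalization_normalizationDesc]

theorem IntUniv.of_iso {V M T V' M' : Scheme.{u}} {g : V ⟶ M} {m : M ⟶ T} {g' : V' ⟶ M'} {m' : M' ⟶ T}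
    (h : IntUniv g m) (eV : V' ≅ V) (eM : M' ≅ M) (w : eM.hom ≫ m = m') (w' : g' ≫ eM.hom = eV.hom ≫ g) :
    IntUniv g' m' := by
  intro Z τ hτ γ hγ
  obtain ⟨k, ⟨hk1, hk2⟩, hu⟩ := h τ hτ (eV.inv ≫ γ)
    (by rw [Category.assoc, hγ, ← w, reassoc_of% w', Iso.inv_hom_id_assoc])
  refine ⟨eM.hom ≫ k, ⟨by rw [reassoc_of% w', hk1, Iso.hom_inv_id_assoc], by rw [Category.assoc, hk2, w]⟩,
    fun l hl => ?_⟩
  rw [← Iso.inv_comp_eq]
  refine hu _ ⟨?_, by rw [Category.assoc, hl.2, ← w, Iso.inv_hom_id_assoc]⟩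
  rw [← cancel_epi eV.hom, ← reassoc_of% w', Iso.hom_inv_id_assoc, hl.1, Iso.hom_inv_id_assoc]

theorem intUniv_baseChange {V T T' V' M' : Scheme.{u}} (f : V ⟶ T) [QuasiCompact f] [QuasiSeparated f]
    {π : T' ⟶ T} [Smooth π] {a : V' ⟶ V} {f₁ : V' ⟶ T'} {b : M' ⟶ f.normalization} {m : M' ⟶ T'} {g : V' ⟶ M'}
    (sq : IsPullback a f₁ f π) (sq' : IsPullback b m f.fromNormalization π) (h1 : g ≫ m = f₁)
    (h2 : g ≫ b = a ≫ f.toNormalization) : IntUniv g m := by
  let eM : M' ≅ (pullback.snd f π).normalization := sq'.isoPullback ≪≫ (asIso (f.normalizationPullback π)).symm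
  have he : eM.hom ≫ f.normalizationPullback π = sq'.isoPullback.hom := by simp [eM]
  refine (intUniv_normalization (pullback.snd f π)).of_iso sq.isoPullback eM ?_ ?_
  · rw [← f.normalizationPullback_snd π, reassoc_of% he, sq'.isoPullback_hom_snd]
  · rw [← cancel_mono (f.normalizationPullback π), Category.assoc, he]
    apply pullback.hom_ext
    · rw [Category.assoc, sq'.isoPullback_hom_fst, h2, Category.assoc, Category.assoc,
        f.toNormalization_normalizationPullback_fst, sq.isoPullback_hom_fst_assoc]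
    · rw [Category.assoc, sq'.isoPullback_hom_snd, h1, Category.assoc, Category.assoc,
        f.normalizationPullback_snd, Scheme.Hom.toNormalization_fromNormalization, sq.isoPullback_hom_snd]

variable {S : Scheme.{u}}

theorem isQuasiCompactSp_yon_affine (T : Over S) [IsAffine T.left] : IsQuasiCompactSp ((yon S).obj T) :=
  (isQuasiCompactSp_yon_iff T).2 inferInstance

/-- The relation of an affine chart of a quasi-separated space over an affine scheme. -/
theorem kernelPair_qcqs {P : Sp S} {T V R : Over S} [IsAffine T.left] [IsAffine V.left] (θ : (yon S).obj V ⟶ P)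
    {q : P ⟶ (yon S).obj T} (hqs : IsQuasiSeparatedMor q) {t s : R ⟶ V}
    (sq : IsPullback ((yon S).map t) ((yon S).map s) θ θ) {φ : V ⟶ T} (hφ : (yon S).map φ = θ ≫ q)
    (hts : t ≫ φ = s ≫ φ) : QuasiCompact (t ≫ φ).left ∧ QuasiSeparated (t ≫ φ).left := by
  let i : R ⟶ pullback φ φ := pullback.lift t s hts
  have sqVV := (IsPullback.of_hasPullback φ φ).map (yon S)
  let b : (yon S).obj (pullback φ φ) ⟶ pullback q q :=
    pullback.lift ((yon S).map (pullback.fst φ φ) ≫ θ) ((yon S).map (pullback.snd φ φ) ≫ θ)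
      (by rw [Category.assoc, Category.assoc, ← hφ, sqVV.w])
  have hw : ((yon S).map t ≫ θ) ≫ pullback.diagonal q = (yon S).map i ≫ b := by
    apply pullback.hom_ext
    · rw [Category.assoc, pullback.diagonal_fst, Category.comp_id, Category.assoc, pullback.lift_fst,
        ← Functor.map_comp_assoc, pullback.lift_fst]
    · rw [Category.assoc, pullback.diagonal_snd, Category.comp_id, Category.assoc, pullback.lift_snd,
        ← Functor.map_comp_assoc, pullback.lift_snd, sq.w]
  have sqi : IsPullback ((yon S).map t ≫ θ) ((yon S).map i) (pullback.diagonal q) b := by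
    have e1 : ∀ c : PullbackCone (pullback.diagonal q) b,
        (c.snd ≫ (yon S).map (pullback.fst φ φ)) ≫ θ = c.fst := fun c => by
      have := congrArg (· ≫ pullback.fst q q) c.condition
      simpa [b] using this.symm
    have e2 : ∀ c : PullbackCone (pullback.diagonal q) b,
        (c.snd ≫ (yon S).map (pullback.snd φ φ)) ≫ θ = c.fst := fun c => by
      have := congrArg (· ≫ pullback.snd q q) c.condition
      simpa [b] using this.symm
    refine ⟨⟨hw⟩, ⟨PullbackCone.IsLimit.mk hw (fun c => sq.lift _ _ ((e1 c).trans (e2 c).symm))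
      (fun c => ?_) (fun c => ?_) (fun c m hm1 hm2 => ?_)⟩⟩
    · rw [sq.lift_fst_assoc, e1]
    · apply sqVV.hom_ext
      · rw [Category.assoc, ← Functor.map_comp, pullback.lift_fst, sq.lift_fst]
      · rw [Category.assoc, ← Functor.map_comp, pullback.lift_snd, sq.lift_snd]
    · apply sq.hom_ext
      · rw [sq.lift_fst, ← hm2, Category.assoc, ← Functor.map_comp, pullback.lift_fst]
      · rw [sq.lift_snd, ← hm2, Category.assoc, ← Functor.map_comp, pullback.lift_snd]
  have hi : QuasiCompact i.left := hqs.property b _ _ sqi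
  have : Mono i := (yon S).mono_of_mono_map ⟨fun a a' h => sq.hom_ext
    (by simpa [i, ← Functor.map_comp] using h =≫ (yon S).map (pullback.fst φ φ))
    (by simpa [i, ← Functor.map_comp] using h =≫ (yon S).map (pullback.snd φ φ))⟩
  have : Mono i.left := inferInstanceAs (Mono ((Over.forget S).map i))
  have e := ((IsPullback.of_hasPullback φ φ).map (Over.forget S)).isoPullback
  have : IsAffine (pullback ((Over.forget S).map φ) ((Over.forget S).map φ)) :=
    inferInstanceAs (IsAffine (pullback φ.left φ.left))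
  have : IsAffine (pullback φ φ).left := .of_isIso (e.hom : (pullback φ φ).left ⟶ _)
  have : IsSeparated i.left := inferInstance
  have he : (t ≫ φ).left = i.left ≫ (pullback.fst φ φ ≫ φ).left := by
    rw [← Over.comp_left, pullback.lift_fst_assoc]
  rw [he]
  exact ⟨inferInstance, inferInstance⟩

theorem isIntegralHom_of_invExact {A B N T : Scheme.{u}} [IsAffine T] [IsAffine N] [IsAffine A] {α β : B ⟶ A}
    {π : A ⟶ N} (hex : InvExact α β π) (ν : N ⟶ T) (h : IsIntegralHom (π ≫ ν)) : IsIntegralHom ν := by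
  rw [HasAffineProperty.iff_of_isAffine (P := @IsIntegralHom)] at h ⊢
  have h2 := h.2
  rw [Scheme.Hom.comp_app, CommRingCat.hom_comp] at h2
  exact ⟨inferInstance, RingHom.IsIntegral.tower_bot _ _ hex.1 h2⟩

theorem model_isRelNormalization {P : Sp S} {T V R N M₁ M₂ : Over S} [IsAffine T.left] {p : P ⟶ (yon S).obj T}
    (θ : (yon S).obj V ⟶ P) [Epi θ] {t s : R ⟶ V} (hw : (yon S).map t ≫ θ = (yon S).map s ≫ θ)
    {gV : V ⟶ M₁} {m₁ : M₁ ⟶ T} {gR : R ⟶ M₂} {m₂ : M₂ ⟶ T} {α β : M₂ ⟶ M₁}
    (hα : gR ≫ α = t ≫ gV) (hα' : α ≫ m₁ = m₂) (hβ : gR ≫ β = s ≫ gV) (hβ' : β ≫ m₁ = m₂)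
    {π : M₁ ⟶ N} {ν : N ⟶ T} (hν : IsIntegralHom ν.left) (hπν : π ≫ ν = m₁)
    (hex : InvExact α.left β.left π.left) (h1 : IntUniv gV.left m₁.left) (h2 : IntUniv gR.left m₂.left)
    {f' : P ⟶ (yon S).obj N} (hf' : θ ≫ f' = (yon S).map (gV ≫ π))
    (hp : θ ≫ p = (yon S).map (gV ≫ m₁)) : IsRelNormalization p ((yon S).map ν) f' := by
  refine ⟨(cancel_epi θ).1 (by rw [reassoc_of% hf', hp, ← Functor.map_comp, Category.assoc, hπν]),
    isIntegralMor_iff_repWith.2 ((repWith_yon_map_iff @IsIntegralHom ν).2 hν), ?_⟩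
  intro Z hZ τ γ hτ hγ
  have hr := isIntegralMor_iff_repWith.1 hτ
  have sq := hr.rep.isPullback (𝟙 ((yon S).obj T))
  have : IsIso (hr.rep.fst (𝟙 ((yon S).obj T))) := sq.isIso_fst_of_isIso
  let E := asIso (hr.rep.fst (𝟙 ((yon S).obj T)))
  let w := hr.rep.snd (𝟙 ((yon S).obj T))
  have hwi : IsIntegralHom w.left := hr.property_snd (𝟙 ((yon S).obj T))
  have : IsAffine (hr.rep.pullback (𝟙 ((yon S).obj T))).left := isAffine_of_isAffineHom w.left
  have hwτ : E.hom ≫ τ = (yon S).map w := sq.w.trans (Category.comp_id _)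
  obtain ⟨γ₁, hγ₁⟩ := (yon S).map_surjective (θ ≫ γ ≫ E.inv)
  have hγw : γ₁ ≫ w = gV ≫ m₁ := (yon S).map_injective (by
    rw [Functor.map_comp, hγ₁, ← hwτ, Category.assoc, Category.assoc, E.inv_hom_id_assoc, hγ, hp])
  obtain ⟨k, ⟨hk1, hk2⟩, hku⟩ := h1 w.left hwi γ₁.left
    (by rw [← Over.comp_left, hγw, Over.comp_left])
  have hts : t ≫ γ₁ = s ≫ γ₁ := (yon S).map_injective (by
    rw [Functor.map_comp, Functor.map_comp, hγ₁, reassoc_of% hw])
  have hk : α.left ≫ k = β.left ≫ k := by
    refine (h2 w.left hwi (t.left ≫ γ₁.left) ?_).unique ⟨?_, ?_⟩ ⟨?_, ?_⟩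
    · rw [Category.assoc, ← Over.comp_left, hγw, ← Over.comp_left, ← Over.comp_left, ← hα', reassoc_of% hα]
    · rw [← Category.assoc, ← Over.comp_left, hα, Over.comp_left, Category.assoc, hk1]
    · rw [Category.assoc, hk2, ← Over.comp_left, hα']
    · rw [← Category.assoc, ← Over.comp_left, hβ, Over.comp_left, Category.assoc, hk1, ← Over.comp_left,
        ← Over.comp_left, hts]
    · rw [Category.assoc, hk2, ← Over.comp_left, hβ']
  have : IsAffine N.left := isAffine_of_isAffineHom ν.left
  obtain ⟨h₀, hh₀⟩ := hex.exists_desc k hk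
  have hh₀ν : h₀ ≫ w.left = ν.left := hex.hom_ext (by
    rw [reassoc_of% hh₀, hk2, ← Over.comp_left, hπν])
  let h : N ⟶ hr.rep.pullback (𝟙 ((yon S).obj T)) := Over.homMk h₀ (by
    rw [← Over.w w, ← Category.assoc, hh₀ν]; exact Over.w ν)
  refine ⟨(yon S).map h ≫ E.hom, ⟨?_, ?_⟩, ?_⟩
  · rw [← cancel_epi θ, reassoc_of% hf', ← Functor.map_comp_assoc]
    have : (gV ≫ π) ≫ h = γ₁ := Over.OverMorphism.ext (by
      rw [Over.comp_left, Over.comp_left, Category.assoc]; show _ ≫ _ ≫ h₀ = _; rw [hh₀, hk1])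
    rw [this, hγ₁, Category.assoc, Category.assoc, E.inv_hom_id, Category.comp_id]
  · rw [Category.assoc, hwτ, ← Functor.map_comp]
    congr 1
    exact Over.OverMorphism.ext hh₀ν
  · rintro l ⟨hl1, hl2⟩
    obtain ⟨l₀, hl₀⟩ := (yon S).map_surjective (l ≫ E.inv)
    have hl : l = (yon S).map l₀ ≫ E.hom := by rw [hl₀, Category.assoc, E.inv_hom_id, Category.comp_id]
    have c1 : (gV ≫ π) ≫ l₀ = γ₁ := (yon S).map_injective (by
      rw [Functor.map_comp, hl₀, hγ₁, ← hf', Category.assoc, reassoc_of% hl1])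
    have c2 : l₀ ≫ w = ν := (yon S).map_injective (by
      rw [Functor.map_comp, ← hwτ, ← Category.assoc, ← hl, hl2])
    have : π.left ≫ l₀.left = k := hku _ ⟨by
      rw [← c1, Over.comp_left, Over.comp_left, Category.assoc], by
      rw [Category.assoc, ← Over.comp_left, c2, ← Over.comp_left, hπν]⟩
    have : l₀ = h := Over.OverMorphism.ext (hex.hom_ext (by rw [this]; exact hh₀.symm))
    rw [hl, this]

/-- Normalization of an affine scheme in a quasi-compact quasi-separated space, stable under smooth base change. -/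
theorem exists_smoothNorm_affine {P : Sp S} (hP : IsAlgSpace P) {T : Over S} [IsAffine T.left]
    (q : P ⟶ (yon S).obj T) (hqc : IsQuasiCompactMor q) (hqs : IsQuasiSeparatedMor q) :
    ∃ (N : Over S) (ν : N ⟶ T) (f' : P ⟶ (yon S).obj N),
      IsIntegralHom ν.left ∧ f' ≫ (yon S).map ν = q ∧
        ∀ ⦃T' : Over S⦄ (k : T' ⟶ T), IsAffine T'.left → Smooth k.left →
          NormAt q ((yon S).map ν) f' ((yon S).map k) := by
  have hPc : IsQuasiCompactSp P := hqc (IsAlgSpace.yon_obj T) (isQuasiCompactSp_yon_affine T)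
    (𝟙 _) (𝟙 _) q (IsPullback.of_id_fst)
  obtain ⟨V, θ, hV, hθ, hθs⟩ := CartierRegular.exists_affine_atlas hP hPc
  have := isLocallySurjective_of_etale_surjective hθ hθs
  have : Epi θ := epi_of_etale_surjective hθ hθs
  let R := hθ.rep.pullback θ
  let t : R ⟶ V := hθ.rep.fst' θ
  let s : R ⟶ V := hθ.rep.snd θ
  have sqR : IsPullback ((yon S).map t) ((yon S).map s) θ θ := hθ.rep.isPullback' θ
  obtain ⟨φ, hφ⟩ := (yon S).map_surjective (θ ≫ q)
  have hts : t ≫ φ = s ≫ φ := (yon S).map_injective (by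
    rw [Functor.map_comp, Functor.map_comp, hφ, reassoc_of% sqR.w])
  have hqR : QuasiCompact (t ≫ φ).left ∧ QuasiSeparated (t ≫ φ).left := kernelPair_qcqs θ hqs sqR hφ hts
  have := hqR.1
  have := hqR.2
  have : QuasiCompact φ.left := inferInstance
  have : QuasiSeparated φ.left := inferInstance
  let M₁ : Over S := Over.mk (φ.left.fromNormalization ≫ T.hom)
  let m₁ : M₁ ⟶ T := Over.homMk φ.left.fromNormalization rfl
  let gV : V ⟶ M₁ := Over.homMk φ.left.toNormalization (by
    simp [M₁, Over.w φ])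
  let M₂ : Over S := Over.mk ((t ≫ φ).left.fromNormalization ≫ T.hom)
  let m₂ : M₂ ⟶ T := Over.homMk (t ≫ φ).left.fromNormalization rfl
  let gR : R ⟶ M₂ := Over.homMk (t ≫ φ).left.toNormalization (by
    simp [M₂, Over.w φ, Over.w t])
  have hgV : gV ≫ m₁ = φ := Over.OverMorphism.ext φ.left.toNormalization_fromNormalization
  have hgR : gR ≫ m₂ = t ≫ φ := Over.OverMorphism.ext (t ≫ φ).left.toNormalization_fromNormalization
  have mkA : ∀ r : R ⟶ V, r ≫ φ = t ≫ φ → ∃ α : M₂ ⟶ M₁, gR ≫ α = r ≫ gV ∧ α ≫ m₁ = m₂ := fun r hr => by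
    have hr' : (t ≫ φ).left = (r.left ≫ φ.left.toNormalization) ≫ φ.left.fromNormalization := by
      rw [Category.assoc, φ.left.toNormalization_fromNormalization, ← Over.comp_left, hr]
    refine ⟨Over.homMk ((t ≫ φ).left.normalizationDesc _ _ hr') ?_, ?_, ?_⟩
    · show _ ≫ φ.left.fromNormalization ≫ T.hom = (t ≫ φ).left.fromNormalization ≫ T.hom
      rw [Scheme.Hom.normalizationDesc_comp_assoc]
    · exact Over.OverMorphism.ext ((t ≫ φ).left.toNormalization_normalizationDesc _ _ hr')
    · exact Over.OverMorphism.ext ((t ≫ φ).left.normalizationDesc_comp _ _ hr')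
  obtain ⟨α, hα, hα'⟩ := mkA t rfl
  obtain ⟨β, hβ, hβ'⟩ := mkA s hts.symm
  have : IsAffine M₁.left := isAffine_of_isAffineHom φ.left.fromNormalization
  have : IsAffine M₂.left := isAffine_of_isAffineHom (t ≫ φ).left.fromNormalization
  obtain ⟨Y, π₀, ν₀, hY, hex, hwπ, hπν₀⟩ := exists_invExact α.left β.left m₁.left
    (by rw [← Over.comp_left, hα', ← Over.comp_left, hβ'])
  let N : Over S := Over.mk (ν₀ ≫ T.hom)
  let ν : N ⟶ T := Over.homMk ν₀ rfl
  let π : M₁ ⟶ N := Over.homMk π₀ (by
    show π₀ ≫ ν₀ ≫ T.hom = _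
    rw [reassoc_of% hπν₀]
    exact Over.w m₁)
  have hν : IsIntegralHom ν.left := isIntegralHom_of_invExact hex ν₀ (by rw [hπν₀]; exact inferInstanceAs (IsIntegralHom φ.left.fromNormalization))
  have hπν : π ≫ ν = m₁ := Over.OverMorphism.ext hπν₀
  have hαπ : α ≫ π = β ≫ π := Over.OverMorphism.ext hwπ
  obtain ⟨f', hf'⟩ := exists_desc_of_kernelPair sqR ((yon S).map (gV ≫ π)) (by
    rw [← Functor.map_comp, ← Functor.map_comp, ← reassoc_of% hα, ← reassoc_of% hβ, hαπ])
  have hfν : f' ≫ (yon S).map ν = q := (cancel_epi θ).1 (by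
    rw [reassoc_of% hf', ← Functor.map_comp, Category.assoc, hπν, hgV, hφ])
  refine ⟨N, ν, f', hν, hfν, fun T' k hT' hk => ?_⟩
  intro P' N'' a p' b μ g sq sq' h1 h2
  let V' := pullback φ k
  let M₁' := pullback m₁ k
  let M₂' := pullback m₂ k
  let R' := pullback (t ≫ φ) k
  let N' := pullback ν k
  let θ' : (yon S).obj V' ⟶ P' := sq.lift ((yon S).map (pullback.fst φ k) ≫ θ) ((yon S).map (pullback.snd φ k))
    (by rw [Category.assoc, ← hφ, ← Functor.map_comp, ← Functor.map_comp, pullback.condition])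
  have sqV : IsPullback ((yon S).map (pullback.fst φ k)) θ' θ a := by
    refine IsPullback.of_bot ?_ (sq.lift_fst _ _ _).symm sq
    rw [sq.lift_snd, ← hφ]
    exact (IsPullback.of_hasPullback φ k).map (yon S)
  have : Epi θ' := epi_of_etale_surjective (repWith_of_isPullback sqV hθ) (repWith_of_isPullback sqV hθs)
  let gV' : V' ⟶ M₁' := pullback.lift (pullback.fst φ k ≫ gV) (pullback.snd φ k)
    (by rw [Category.assoc, hgV, pullback.condition])
  let gR' : R' ⟶ M₂' := pullback.lift (pullback.fst _ k ≫ gR) (pullback.snd _ k)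
    (by rw [Category.assoc, hgR, pullback.condition])
  let t' : R' ⟶ V' := pullback.lift (pullback.fst _ k ≫ t) (pullback.snd _ k)
    (by rw [Category.assoc, pullback.condition])
  let s' : R' ⟶ V' := pullback.lift (pullback.fst _ k ≫ s) (pullback.snd _ k)
    (by rw [Category.assoc, ← hts, pullback.condition])
  let α' : M₂' ⟶ M₁' := pullback.lift (pullback.fst _ k ≫ α) (pullback.snd _ k)
    (by rw [Category.assoc, hα', pullback.condition])
  let β' : M₂' ⟶ M₁' := pullback.lift (pullback.fst _ k ≫ β) (pullback.snd _ k)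
    (by rw [Category.assoc, hβ', pullback.condition])
  let π' : M₁' ⟶ N' := pullback.lift (pullback.fst _ k ≫ π) (pullback.snd _ k)
    (by rw [Category.assoc, hπν, pullback.condition])
  have sqN : IsPullback ((yon S).map (pullback.fst ν k)) ((yon S).map (pullback.snd ν k)) ((yon S).map ν)
      ((yon S).map k) := (IsPullback.of_hasPullback ν k).map (yon S)
  have hw' : (yon S).map t' ≫ θ' = (yon S).map s' ≫ θ' := by
    refine sq.hom_ext ?_ ?_
    · rw [Category.assoc, Category.assoc, sq.lift_fst, ← Functor.map_comp_assoc, ← Functor.map_comp_assoc,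
        pullback.lift_fst, pullback.lift_fst, Functor.map_comp, Functor.map_comp, Category.assoc, Category.assoc,
        sqR.w]
    · rw [Category.assoc, Category.assoc, sq.lift_snd, ← Functor.map_comp, ← Functor.map_comp,
        pullback.lift_snd, pullback.lift_snd]
  have : Smooth k.left := hk
  have : Smooth ((Over.forget S).map k) := this
  have : IsAffine T'.left := hT'
  have : Flat (pullback.fst ν k).left := MorphismProperty.of_isPullback (P := @Flat)
    ((IsPullback.of_hasPullback ν k).map (Over.forget S)).flip (inferInstanceAs (Flat k.left))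
  have : IsIntegralHom ν.left := hν
  have : IsAffine N.left := hY
  have hν' : IsIntegralHom (pullback.snd ν k).left := MorphismProperty.of_isPullback (P := @IsIntegralHom)
    ((IsPullback.of_hasPullback ν k).map (Over.forget S)) hν
  have : IsAffine N'.left := isAffine_of_isAffineHom (pullback.snd ν k).left
  have hex' : InvExact α'.left β'.left π'.left := by
    have H : IsPullback (pullback.fst m₁ k) π' π (pullback.fst ν k) := by
      refine IsPullback.of_bot ?_ (pullback.lift_fst _ _ _).symm (IsPullback.of_hasPullback ν k)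
      rw [pullback.lift_snd, hπν]
      exact IsPullback.of_hasPullback m₁ k
    have H₂ : IsPullback (pullback.fst m₂ k) (α' ≫ π') (α ≫ π) (pullback.fst ν k) := by
      refine IsPullback.of_bot ?_ (by simp [α', π']) (IsPullback.of_hasPullback ν k)
      simp only [α', π', Category.assoc, pullback.lift_snd, hπν, hα']
      exact IsPullback.of_hasPullback m₂ k
    refine invExact_of_flat hex hwπ (pullback.fst ν k).left (H.map (Over.forget S)) (H₂.map (Over.forget S))
      ?_ ?_ ?_
    · exact congrArg Over.Hom.left (show α' ≫ pullback.fst m₁ k = pullback.fst m₂ k ≫ α from pullback.lift_fst _ _ _)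
    · exact congrArg Over.Hom.left (show β' ≫ pullback.fst m₁ k = pullback.fst m₂ k ≫ β from pullback.lift_fst _ _ _)
    · refine congrArg Over.Hom.left (show α' ≫ π' = β' ≫ π' from ?_)
      apply pullback.hom_ext <;> simp [α', β', π', hαπ]
  let e := sq'.isoIsPullback _ _ sqN
  refine of_iso (model_isRelNormalization (p := p') θ' hw' (gV := gV') (m₁ := pullback.snd m₁ k) (gR := gR')
    (m₂ := pullback.snd m₂ k) (α := α') (β := β') (π := π') (ν := pullback.snd ν k) (f' := g ≫ e.hom)
    ?_ (pullback.lift_snd _ _ _) ?_ (pullback.lift_snd _ _ _) hν' (pullback.lift_snd _ _ _) hex' ?_ ?_ ?_ ?_)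
    (Iso.refl _) e (Category.id_comp _) (sq'.isoIsPullback_hom_snd _ _ sqN) (Category.id_comp _).symm
  · apply pullback.hom_ext <;> simp [gR', α', t', gV', hα]
  · apply pullback.hom_ext <;> simp [gR', β', s', gV', hβ]
  · exact intUniv_baseChange φ.left (a := (pullback.fst φ k).left) (f₁ := (pullback.snd φ k).left)
      (b := (pullback.fst m₁ k).left) ((IsPullback.of_hasPullback φ k).map (Over.forget S))
      ((IsPullback.of_hasPullback m₁ k).map (Over.forget S))
      (congrArg Over.Hom.left (show gV' ≫ pullback.snd m₁ k = _ from pullback.lift_snd _ _ _))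
      (congrArg Over.Hom.left (show gV' ≫ pullback.fst m₁ k = pullback.fst φ k ≫ gV from pullback.lift_fst _ _ _))
  · exact intUniv_baseChange (t ≫ φ).left (a := (pullback.fst _ k).left) (f₁ := (pullback.snd _ k).left)
      (b := (pullback.fst m₂ k).left) ((IsPullback.of_hasPullback (t ≫ φ) k).map (Over.forget S))
      ((IsPullback.of_hasPullback m₂ k).map (Over.forget S))
      (congrArg Over.Hom.left (show gR' ≫ pullback.snd m₂ k = _ from pullback.lift_snd _ _ _))
      (congrArg Over.Hom.left (show gR' ≫ pullback.fst m₂ k = pullback.fst _ k ≫ gR from pullback.lift_fst _ _ _))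
  · refine sqN.hom_ext ?_ ?_
    · rw [Category.assoc, Category.assoc, IsPullback.isoIsPullback_hom_fst, h2, sq.lift_fst_assoc, Category.assoc,
        hf', ← Functor.map_comp, ← Functor.map_comp]
      simp [gV', π']
    · rw [Category.assoc, Category.assoc, IsPullback.isoIsPullback_hom_snd, h1, sq.lift_snd, ← Functor.map_comp]
      simp [gV', π']
  · rw [sq.lift_snd, pullback.lift_snd]

/-- Normalization of an affine scheme in a quasi-compact quasi-separated space, stable under etale base change. -/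
theorem exists_stabNorm_affine {P : Sp S} (hP : IsAlgSpace P) {T : Over S} [IsAffine T.left]
    (q : P ⟶ (yon S).obj T) (hqc : IsQuasiCompactMor q) (hqs : IsQuasiSeparatedMor q) :
    ∃ (N : Over S) (ν : N ⟶ T) (f' : P ⟶ (yon S).obj N),
      IsIntegralHom ν.left ∧ StabNorm q ((yon S).map ν) f' := by
  obtain ⟨N, ν, f', hν, hfν, hsm⟩ := exists_smoothNorm_affine hP q hqc hqs
  refine ⟨N, ν, f', hν, hfν, isIntegralMor_iff_repWith.2 ((repWith_yon_map_iff @IsIntegralHom ν).2 hν),
    fun T c h => h.1, fun x => ?_⟩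
  obtain ⟨x, rfl⟩ := (Points.schemeHomeo T).surjective x
  refine ⟨T, 𝟙 _, ⟨repWith_id _ T, ‹_›, fun T' k hT' hk => ?_⟩, x,
    (Points.ofPt_eq_map_ofScheme _ _).trans (by simp; rfl)⟩
  rw [Category.comp_id]
  exact hsm k hT' inferInstance

end Groth.Agent.RelNorm
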