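import Groth.Agent.AlgSpDec.AffineRep
import Groth.Agent.AlgSpDec.AffineProps
import Groth.Agent.AlgSpLib.Rep
import Groth.Prelude.Def_AlgSpMor5

/-!
# Relative normalizations: formal properties
-/

set_option autoImplicit false
set_option backward.isDefEq.respectTransparency false
set_option backward.isDefEq.respectTransparency.types false

universe u

open CategoryTheory CategoryTheory.Limits AlgebraicGeometry AlgSp Groth.Agent.AlgSpLib Groth.Agent.AlgSpDec

namespace Groth.Agent.RelNorm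

variable {S : Scheme.{u}}

theorem isIntegralMor_of_isPullback {F G F' G' : Sp S} {f : F ⟶ G} {g : G' ⟶ G} {fst : F' ⟶ F}
    {snd : F' ⟶ G'} (sq : IsPullback fst snd f g) (hf : IsIntegralMor f) : IsIntegralMor snd :=
  isIntegralMor_iff_repWith.2 (repWith_of_isPullback sq (isIntegralMor_iff_repWith.1 hf))

theorem isIntegralMor_comp {F G H : Sp S} {f : F ⟶ G} {g : G ⟶ H} (hf : IsIntegralMor f)
    (hg : IsIntegralMor g) : IsIntegralMor (f ≫ g) :=
  isIntegralMor_iff_repWith.2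
    (repWith_comp (isIntegralMor_iff_repWith.1 hf) (isIntegralMor_iff_repWith.1 hg))

theorem isIntegralMor_of_iso {F G : Sp S} (f : F ⟶ G) [IsIso f] : IsIntegralMor f :=
  isIntegralMor_iff_repWith.2 (repWith_of_isIso _ f)

theorem isAlgSpace_of_integral {F G : Sp S} {f : F ⟶ G} (hf : IsIntegralMor f) (hG : IsAlgSpace G) :
    IsAlgSpace F :=
  isAlgSpace_of_representable f (isIntegralMor_iff_repWith.1 hf).rep hG

/-- Maps out of a normalization into an integral morphism over a map of the bases. -/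
theorem existsUnique_over {P N W : Sp S} {p : P ⟶ W} {μ : N ⟶ W} {g : P ⟶ N}
    (hn : IsRelNormalization p μ g) (hW : IsAlgSpace W) {Z G : Sp S} {π : Z ⟶ G} (hπ : IsIntegralMor π)
    (m : W ⟶ G) {γ : P ⟶ Z} (hγ : γ ≫ π = p ≫ m) : ∃! h : N ⟶ Z, g ≫ h = γ ∧ h ≫ π = μ ≫ m := by
  have sq := IsPullback.of_hasPullback π m
  have hi := isIntegralMor_of_isPullback sq hπ
  obtain ⟨k, ⟨hk1, hk2⟩, hu⟩ := hn.2.2 (isAlgSpace_of_integral hi hW) _ (pullback.lift γ p hγ) hi
    (pullback.lift_snd _ _ _)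
  refine ⟨k ≫ pullback.fst π m, ⟨?_, ?_⟩, fun h hh => ?_⟩
  · rw [← Category.assoc, hk1, pullback.lift_fst]
  · rw [Category.assoc, pullback.condition, ← Category.assoc, hk2]
  · have := hu (pullback.lift h μ hh.2) ⟨pullback.hom_ext
      (by rw [Category.assoc, pullback.lift_fst, pullback.lift_fst, hh.1])
      (by rw [Category.assoc, pullback.lift_snd, pullback.lift_snd, hn.1]), pullback.lift_snd _ _ _⟩
    rw [← this, pullback.lift_fst]

/-- Two maps out of a normalization into an integral morphism over the same map of the bases are equal. -/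
theorem hom_ext {P N W : Sp S} {p : P ⟶ W} {μ : N ⟶ W} {g : P ⟶ N}
    (hn : IsRelNormalization p μ g) (hW : IsAlgSpace W) {Z G : Sp S} {π : Z ⟶ G} (hπ : IsIntegralMor π)
    (m : W ⟶ G) {h h' : N ⟶ Z} (e : g ≫ h = g ≫ h') (h1 : h ≫ π = μ ≫ m) (h2 : h' ≫ π = μ ≫ m) :
    h = h' :=
  (existsUnique_over hn hW hπ m (γ := g ≫ h') (by rw [Category.assoc, h2, ← Category.assoc, hn.1])).unique
    ⟨e, h1⟩ ⟨rfl, h2⟩

/-- Invariance under isomorphisms of the source and of the normalization. -/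
theorem of_iso {P P' N N' W : Sp S} {p : P ⟶ W} {μ : N ⟶ W} {g : P ⟶ N} {p' : P' ⟶ W} {μ' : N' ⟶ W}
    {g' : P' ⟶ N'} (hn : IsRelNormalization p μ g) (eP : P' ≅ P) (eN : N' ≅ N)
    (w1 : eP.hom ≫ p = p') (w2 : eN.hom ≫ μ = μ') (w3 : g' ≫ eN.hom = eP.hom ≫ g) :
    IsRelNormalization p' μ' g' := by
  obtain ⟨h1, h2, h3⟩ := hn
  refine ⟨by rw [← w2, reassoc_of% w3, h1, w1], by rw [← w2]; exact isIntegralMor_comp (isIntegralMor_of_iso _) h2,
    fun Z hZ π γ hπ hγ => ?_⟩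
  obtain ⟨h, ⟨ha, hb⟩, hu⟩ := h3 hZ π (eP.inv ≫ γ) hπ
    (by rw [Category.assoc, hγ, ← w1, Iso.inv_hom_id_assoc])
  refine ⟨eN.hom ≫ h, ⟨?_, ?_⟩, fun k hk => ?_⟩
  · rw [reassoc_of% w3, ha, Iso.hom_inv_id_assoc]
  · rw [Category.assoc, hb, w2]
  · rw [← Iso.inv_comp_eq]
    refine hu _ ⟨?_, ?_⟩
    · rw [← cancel_epi eP.hom, ← reassoc_of% w3, Iso.hom_inv_id_assoc, Iso.hom_inv_id_assoc, hk.1]
    · rw [Category.assoc, hk.2, ← w2, Iso.inv_hom_id_assoc]

/-- A normalization is unique up to a unique isomorphism. -/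
theorem exists_iso {P N N' W : Sp S} {p : P ⟶ W} {μ : N ⟶ W} {g : P ⟶ N} {μ' : N' ⟶ W}
    {g' : P ⟶ N'} (hW : IsAlgSpace W) (hn : IsRelNormalization p μ g) (hn' : IsRelNormalization p μ' g') :
    ∃ e : N ≅ N', g ≫ e.hom = g' ∧ e.hom ≫ μ' = μ := by
  obtain ⟨a, ⟨ha1, ha2⟩, -⟩ := hn.2.2 (isAlgSpace_of_integral hn'.2.1 hW) μ' g' hn'.2.1 hn'.1
  obtain ⟨b, ⟨hb1, hb2⟩, -⟩ := hn'.2.2 (isAlgSpace_of_integral hn.2.1 hW) μ g hn.2.1 hn.1
  refine ⟨⟨a, b, ?_, ?_⟩, ha1, ha2⟩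
  · exact hom_ext hn hW hn.2.1 (𝟙 W) (by rw [reassoc_of% ha1, hb1, Category.comp_id])
      (by rw [Category.assoc, hb2, ha2, Category.comp_id]) (by rw [Category.id_comp, Category.comp_id])
  · exact hom_ext hn' hW hn'.2.1 (𝟙 W) (by rw [reassoc_of% hb1, ha1, Category.comp_id])
      (by rw [Category.assoc, ha2, hb2, Category.comp_id]) (by rw [Category.id_comp, Category.comp_id])

end Groth.Agent.RelNorm
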