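import Groth.Agent.RelNorm.Main
import Groth.Agent.CodimQf.Basic
import Groth.Agent.AlgSpDec.CodimZero
import Mathlib.AlgebraicGeometry.IdealSheaf.Subscheme

/-!
# Codimension zero points of a relative normalization
-/

set_option autoImplicit false
set_option backward.isDefEq.respectTransparency false
set_option backward.isDefEq.respectTransparency.types false

universe u

open CategoryTheory CategoryTheory.Limits AlgebraicGeometry AlgSp Groth.Agent.AlgSpLib Groth.Agent.AlgSpDec
  Groth.Agent.AlgSpPts

namespace Groth.Agent.RelNorm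

variable {S : Scheme.{u}}

/-- An affine chart of the source has dense image in a normalization of an affine scheme. -/
theorem exists_toImage_of_isRelNormalization {P : Sp S} {T N V : Over S} [IsAffine V.left] [IsAffine T.left]
    {p : P ⟶ (yon S).obj T} {ν : N ⟶ T} {f' : P ⟶ (yon S).obj N}
    (hn : IsRelNormalization p ((yon S).map ν) f') {θ : (yon S).obj V ⟶ P} (hθ : RepWith @Etale θ)
    (hθs : RepWith @Surjective θ) {φ : V ⟶ N} (hφ : (yon S).map φ = θ ≫ f') : IsIso φ.left.imageι := by
  have hνi : IsIntegralHom ν.left :=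
    (repWith_yon_map_iff @IsIntegralHom ν).1 (isIntegralMor_iff_repWith.1 hn.2.1)
  have : IsAffine N.left := isAffine_of_isAffineHom ν.left
  let Z : Over S := Over.mk (φ.left.imageι ≫ N.hom)
  let i : Z ⟶ N := CategoryTheory.Over.homMk φ.left.imageι rfl
  let k : V ⟶ Z := CategoryTheory.Over.homMk φ.left.toImage (by
    show φ.left.toImage ≫ φ.left.imageι ≫ N.hom = _
    rw [Scheme.Hom.toImage_imageι_assoc]; exact Over.w φ)
  have hki : k ≫ i = φ := Over.OverMorphism.ext φ.left.toImage_imageι
  have : IsClosedImmersion i.left := inferInstanceAs (IsClosedImmersion φ.left.imageι)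
  have : Mono i := (Over.forget S).mono_of_mono_map (inferInstanceAs (Mono i.left))
  have := isLocallySurjective_of_etale_surjective hθ hθs
  obtain ⟨γ, hγ⟩ := exists_desc_of_kernelPair (hθ.rep.isPullback' θ) ((yon S).map k) (by
    rw [← Functor.map_comp, ← Functor.map_comp]
    congr 1
    refine (cancel_mono i).1 ((yon S).map_injective ?_)
    simp only [Category.assoc, hki, Functor.map_comp, hφ]
    rw [reassoc_of% (hθ.rep.isPullback' θ).w])
  have hγi : γ ≫ (yon S).map i = f' := by
    have : Epi θ := epi_of_etale_surjective hθ hθs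
    rw [← cancel_epi θ, reassoc_of% hγ, ← Functor.map_comp, hki, hφ]
  obtain ⟨h, ⟨h1, h2⟩, -⟩ := hn.2.2 (IsAlgSpace.yon_obj Z) ((yon S).map (i ≫ ν)) γ
    (isIntegralMor_iff_repWith.2 ((repWith_yon_map_iff @IsIntegralHom _).2
      (by rw [Over.comp_left]; infer_instance)))
    (by rw [Functor.map_comp, reassoc_of% hγi, hn.1])
  obtain ⟨h, rfl⟩ := (yon S).map_surjective h
  have hhi : h ≫ i = 𝟙 N := (yon S).map_injective (hom_ext hn (IsAlgSpace.yon_obj T) hn.2.1 (𝟙 _)
    (by rw [Functor.map_comp, reassoc_of% h1, hγi, CategoryTheory.Functor.map_id, Category.comp_id])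
    (by rw [← Functor.map_comp, Category.assoc, Category.comp_id, ← h2, Functor.map_comp])
    (by rw [CategoryTheory.Functor.map_id, Category.id_comp, Category.comp_id]))
  have : IsSplitEpi i.left := ⟨⟨⟨h.left, by rw [← Over.comp_left, hhi]; rfl⟩⟩⟩
  have : IsIso i.left := isIso_of_mono_of_isSplitEpi i.left
  exact this

/-- An affine chart of the source has dense image in a normalization of an affine scheme. -/
theorem isDominant_of_isRelNormalization {P : Sp S} {T N V : Over S} [IsAffine V.left] [IsAffine T.left]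
    {p : P ⟶ (yon S).obj T} {ν : N ⟶ T} {f' : P ⟶ (yon S).obj N}
    (hn : IsRelNormalization p ((yon S).map ν) f') {θ : (yon S).obj V ⟶ P} (hθ : RepWith @Etale θ)
    (hθs : RepWith @Surjective θ) {φ : V ⟶ N} (hφ : (yon S).map φ = θ ≫ f') : IsDominant φ.left := by
  have : IsAffine N.left :=
    have : IsIntegralHom ν.left := (repWith_yon_map_iff @IsIntegralHom ν).1 (isIntegralMor_iff_repWith.1 hn.2.1)
    isAffine_of_isAffineHom ν.left
  have := exists_toImage_of_isRelNormalization hn hθ hθs hφ
  rw [← φ.left.toImage_imageι]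
  infer_instance

/-- An affine chart of the source embeds the functions of a normalization of an affine scheme. -/
theorem appTop_injective_of_isRelNormalization {P : Sp S} {T N V : Over S} [IsAffine V.left] [IsAffine T.left]
    {p : P ⟶ (yon S).obj T} {ν : N ⟶ T} {f' : P ⟶ (yon S).obj N}
    (hn : IsRelNormalization p ((yon S).map ν) f') {θ : (yon S).obj V ⟶ P} (hθ : RepWith @Etale θ)
    (hθs : RepWith @Surjective θ) {φ : V ⟶ N} (hφ : (yon S).map φ = θ ≫ f') :
    Function.Injective φ.left.appTop.hom := by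
  have : IsAffine N.left :=
    have : IsIntegralHom ν.left := (repWith_yon_map_iff @IsIntegralHom ν).1 (isIntegralMor_iff_repWith.1 hn.2.1)
    isAffine_of_isAffineHom ν.left
  have := exists_toImage_of_isRelNormalization hn hθ hθs hφ
  have hker : φ.left.ker = ⊥ := by
    rw [← φ.left.ker.ker_subschemeι]
    exact φ.left.imageι.ker_eq_bot_of_isIso
  have h2 := φ.left.ker_apply ⟨⊤, isAffineOpen_top _⟩
  rw [hker] at h2
  exact (RingHom.injective_iff_ker_eq_bot _).2 h2.symm

theorem exists_codimZero_lift {F G X' : Sp S} (hF : IsAlgSpace F) (hG : IsAlgSpace G) {f : F ⟶ G}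
    (hqc : IsQuasiCompactMor f) (hqs : IsQuasiSeparatedMor f) {μ : X' ⟶ G} {f' : F ⟶ X'}
    (hn : IsRelNormalization f μ f') {x' : Points X'}
    (hx' : HasAt (fun U u => ringKrullDim ↥(U.presheaf.stalk u) = 0) X' x') :
    ∃ y : Points F, HasAt (fun U u => ringKrullDim ↥(U.presheaf.stalk u) = 0) F y ∧ Points.map f' y = x' := by
  have hs := stabNorm_of_isRelNormalization hF hG hqc hqs hn
  obtain ⟨T, c, hT, t, ht⟩ := hs.covers.covers (Points.map μ x')
  have := hT.2.1
  rw [Points.ofPt_eq_map_ofScheme] at ht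
  have hμ := isIntegralMor_iff_repWith.1 hn.2.1
  let N := hμ.rep.pullback c
  let ν : N ⟶ T := hμ.rep.snd c
  have sqN : IsPullback (hμ.rep.fst c) ((yon S).map ν) μ c := hμ.rep.isPullback c
  have hνi : IsIntegralHom ν.left := hμ.property_snd c
  obtain ⟨z, hz1, -⟩ := exists_point_of_isPullback sqN (x := x') ht.symm
  obtain ⟨z, rfl⟩ := (Points.schemeHomeo N).surjective z
  have hze : Points.ofPt (hμ.rep.fst c) z = x' := (Points.ofPt_eq_map_ofScheme _ z).trans hz1
  rw [← hze, CodimQf.hasAt_codim_zero_iff (repWith_of_isPullback sqN.flip hT.1)] at hx'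
  have sqP := IsPullback.of_hasPullback f c
  have hPc : IsQuasiCompactSp (pullback f c) :=
    hqc (IsAlgSpace.yon_obj T) (isQuasiCompactSp_yon_affine T) c _ _ sqP
  obtain ⟨V, θ, hV, hθ, hθs⟩ := CartierRegular.exists_affine_atlas
    (isAlgSpace_pullback hF (IsAlgSpace.yon_obj T) hG f c) hPc
  let g : pullback f c ⟶ (yon S).obj N := sqN.lift (pullback.fst f c ≫ f') (pullback.snd f c)
    (by rw [Category.assoc, hn.1, pullback.condition])
  have hgb : g ≫ hμ.rep.fst c = pullback.fst f c ≫ f' := sqN.lift_fst _ _ _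
  have hn1 := hT.normAt _ _ _ _ g sqP sqN (sqN.lift_snd _ _ _) hgb
  obtain ⟨φ, hφ⟩ := (yon S).map_surjective (θ ≫ g)
  have hd : IsDominant φ.left := isDominant_of_isRelNormalization hn1 hθ hθs hφ
  have : IsAffine N.left := isAffine_of_isAffineHom ν.left
  obtain ⟨v, hv⟩ := ProConsLib.exists_specializes_of_mem_closure_range φ.left.isSpectralMap
    (y := z) (by rw [φ.left.denseRange.closure_range]; trivial)
  obtain ⟨v', hv', hv0⟩ := CodimQf.exists_coheight_zero_specializes v
  have hvz : φ.left v' = z := eq_of_specializes_of_coheight hx' ((hv'.map φ.left.continuous).trans hv)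
  have he : RepWith @Etale (θ ≫ pullback.fst f c) := repWith_comp hθ (repWith_fst f hT.1)
  refine ⟨Points.ofPt (θ ≫ pullback.fst f c) v', (CodimQf.hasAt_codim_zero_iff he v').2 hv0, ?_⟩
  rw [Points.map_ofPt, Category.assoc, ← hgb, ← reassoc_of% hφ, ofPt_comp, hvz, hze]

end Groth.Agent.RelNorm
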