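import Groth.Agent.RelNorm.Stab
import Groth.Agent.AlgSpPts.Quot
import Groth.Agent.AlgSpDec.LqfSplitZ
import Groth.Agent.AlgSpDec.AffineLocal

/-!
# Descent of stable normalizations along an etale atlas
-/

set_option autoImplicit false
set_option backward.isDefEq.respectTransparency false
set_option backward.isDefEq.respectTransparency.types false

universe u

open CategoryTheory CategoryTheory.Limits AlgebraicGeometry AlgSp Groth.Agent.AlgSpLib Groth.Agent.AlgSpDec
  Groth.Agent.AlgSpPts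

namespace Groth.Agent.RelNorm

variable {S : Scheme.{u}}

/-- The map between base changes induced by a map of schemes over the target. -/
noncomputable def pm {F G : Sp S} (f : F ⟶ G) {W W' : Over S} {w : (yon S).obj W ⟶ G}
    {w' : (yon S).obj W' ⟶ G} (k : W' ⟶ W) (h : (yon S).map k ≫ w = w') : pullback f w' ⟶ pullback f w :=
  pullback.lift (pullback.fst f w') (pullback.snd f w' ≫ (yon S).map k)
    (by rw [Category.assoc, h, pullback.condition])

theorem pm_fst {F G : Sp S} (f : F ⟶ G) {W W' : Over S} {w : (yon S).obj W ⟶ G}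
    {w' : (yon S).obj W' ⟶ G} (k : W' ⟶ W) (h : (yon S).map k ≫ w = w') :
    pm f k h ≫ pullback.fst f w = pullback.fst f w' := pullback.lift_fst _ _ _

theorem pm_snd {F G : Sp S} (f : F ⟶ G) {W W' : Over S} {w : (yon S).obj W ⟶ G}
    {w' : (yon S).obj W' ⟶ G} (k : W' ⟶ W) (h : (yon S).map k ≫ w = w') :
    pm f k h ≫ pullback.snd f w = pullback.snd f w' ≫ (yon S).map k := pullback.lift_snd _ _ _

theorem isPullback_pm {F G : Sp S} (f : F ⟶ G) {W W' : Over S} {w : (yon S).obj W ⟶ G}
    {w' : (yon S).obj W' ⟶ G} (k : W' ⟶ W) (h : (yon S).map k ≫ w = w') :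
    IsPullback (pm f k h) (pullback.snd f w') (pullback.snd f w) ((yon S).map k) := by
  refine IsPullback.of_right ?_ (pm_snd f k h) (IsPullback.of_hasPullback f w)
  rw [pm_fst]
  subst h
  exact IsPullback.of_hasPullback f _

theorem pm_comp {F G : Sp S} (f : F ⟶ G) {W W' W'' : Over S} {w : (yon S).obj W ⟶ G}
    {w' : (yon S).obj W' ⟶ G} {w'' : (yon S).obj W'' ⟶ G} (k : W' ⟶ W) (h : (yon S).map k ≫ w = w')
    (k' : W'' ⟶ W') (h' : (yon S).map k' ≫ w' = w'') (k'' : W'' ⟶ W) (e : k' ≫ k = k'') :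
    pm f k' h' ≫ pm f k h = pm f k'' (by rw [← e, Functor.map_comp, Category.assoc, h, h']) := by
  subst e
  apply pullback.hom_ext
  · rw [Category.assoc, pm_fst, pm_fst, pm_fst]
  · rw [Category.assoc, pm_snd, ← Category.assoc, pm_snd, pm_snd, Functor.map_comp, Category.assoc]

theorem pm_id {F G : Sp S} (f : F ⟶ G) {W : Over S} {w : (yon S).obj W ⟶ G} (k : W ⟶ W)
    (h : (yon S).map k ≫ w = w) (e : k = 𝟙 W) : pm f k h = 𝟙 _ := by
  subst e
  apply pullback.hom_ext
  · rw [pm_fst, Category.id_comp]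
  · rw [pm_snd, CategoryTheory.Functor.map_id, Category.comp_id, Category.id_comp]

/-- A stable normalization over an atlas descends. -/
theorem exists_stabNorm_of_atlas {F G : Sp S} (hG : IsAlgSpace G) (f : F ⟶ G) {U : Over S}
    {θ : (yon S).obj U ⟶ G} (hθ : RepWith @Etale θ) (hθs : RepWith @Surjective θ) {N : Over S} {ν : N ⟶ U}
    {f₀ : pullback f θ ⟶ (yon S).obj N} (hν : IsIntegralHom ν.left)
    (hs : StabNorm (pullback.snd f θ) ((yon S).map ν) f₀) :
    ∃ (X' : Sp S) (μ : X' ⟶ G) (f' : F ⟶ X'), IsAlgSpace X' ∧ StabNorm f μ f' := by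
  let R := hθ.rep.pullback θ
  let tR : R ⟶ U := hθ.rep.fst' θ
  let sR : R ⟶ U := hθ.rep.snd θ
  have sqR : IsPullback ((yon S).map tR) ((yon S).map sR) θ θ := hθ.rep.isPullback' θ
  have hRext : ∀ {T : Over S} (r r' : T ⟶ R), r ≫ tR = r' ≫ tR → r ≫ sR = r' ≫ sR → r = r' :=
    fun r r' h1 h2 => (yon S).map_injective (sqR.hom_ext (by rw [← Functor.map_comp, ← Functor.map_comp, h1])
      (by rw [← Functor.map_comp, ← Functor.map_comp, h2]))
  have hRlift : ∀ {T : Over S} (a b : T ⟶ U), (yon S).map a ≫ θ = (yon S).map b ≫ θ →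
      ∃ r : T ⟶ R, r ≫ tR = a ∧ r ≫ sR = b := fun a b h => by
    obtain ⟨r, hr⟩ := (yon S).map_surjective (sqR.lift _ _ h)
    exact ⟨r, (yon S).map_injective (by rw [Functor.map_comp, hr, sqR.lift_fst]),
      (yon S).map_injective (by rw [Functor.map_comp, hr, sqR.lift_snd])⟩
  have hsE : Etale sR.left := hθ.property_snd θ
  have htE : Etale tR.left := hθ.property θ _ _ sqR.flip
  let θR : (yon S).obj R ⟶ G := (yon S).map sR ≫ θ
  let aS : pullback f θR ⟶ pullback f θ := pm f sR rfl
  let aT : pullback f θR ⟶ pullback f θ := pm f tR sqR.w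
  let E : Over S := pullback ν sR
  let e : E ⟶ N := pullback.fst ν sR
  let μ : E ⟶ R := pullback.snd ν sR
  have sqE : IsPullback ((yon S).map e) ((yon S).map μ) ((yon S).map ν) ((yon S).map sR) :=
    (IsPullback.of_hasPullback ν sR).map (yon S)
  let gR : pullback f θR ⟶ (yon S).obj E := sqE.lift (aS ≫ f₀) (pullback.snd f θR)
    (by rw [Category.assoc, hs.fac, pm_snd])
  have hgRe : gR ≫ (yon S).map e = aS ≫ f₀ := sqE.lift_fst _ _ _
  have hgRμ : gR ≫ (yon S).map μ = pullback.snd f θR := sqE.lift_snd _ _ _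
  have hsR : StabNorm (pullback.snd f θR) ((yon S).map μ) gR :=
    hs.baseChange (IsAlgSpace.yon_obj U) (IsAlgSpace.yon_obj R) ((isEtaleMor_yon_map_iff sR).2 hsE)
      (isPullback_pm f sR rfl) sqE hgRμ hgRe
  have hnR := hsR.isRelNormalization
  have hnU := hs.isRelNormalization
  have hνi : IsIntegralMor ((yon S).map ν) := hs.integral
  obtain ⟨t₀, ⟨ht₀, ht₀'⟩, -⟩ := existsUnique_over hnR (IsAlgSpace.yon_obj R) hνi ((yon S).map tR)
    (γ := aT ≫ f₀) (by rw [Category.assoc, hs.fac, pm_snd])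
  obtain ⟨t', rfl⟩ := (yon S).map_surjective t₀
  have htν : t' ≫ ν = μ ≫ tR := (yon S).map_injective (by rw [Functor.map_comp, ht₀', Functor.map_comp])
  -- equality of maps out of the normalization over `R`
  have extR : ∀ (m : R ⟶ U) (h h' : E ⟶ N), gR ≫ (yon S).map h = gR ≫ (yon S).map h' → h ≫ ν = μ ≫ m →
      h' ≫ ν = μ ≫ m → h = h' := fun m h h' h1 h2 h3 => (yon S).map_injective (hom_ext hnR (IsAlgSpace.yon_obj R)
        hνi ((yon S).map m) h1 (by rw [← Functor.map_comp, h2, Functor.map_comp])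
        (by rw [← Functor.map_comp, h3, Functor.map_comp]))
  obtain ⟨Δ, hΔt, hΔs⟩ := hRlift (𝟙 U) (𝟙 U) rfl
  let δ : N ⟶ E := pullback.lift (𝟙 N) (ν ≫ Δ) (by rw [Category.id_comp, Category.assoc, hΔs, Category.comp_id])
  have hδe : δ ≫ e = 𝟙 N := pullback.lift_fst _ _ _
  have hδμ : δ ≫ μ = ν ≫ Δ := pullback.lift_snd _ _ _
  have hΔθ : (yon S).map Δ ≫ θR = θ := by
    rw [← Category.assoc, ← Functor.map_comp, hΔs, CategoryTheory.Functor.map_id, Category.id_comp]
  have hdS : pm f Δ hΔθ ≫ aS = 𝟙 _ := (pm_comp f _ _ _ _ _ hΔs).trans (pm_id f _ _ rfl)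
  have hdT : pm f Δ hΔθ ≫ aT = 𝟙 _ := (pm_comp f _ _ _ _ _ hΔt).trans (pm_id f _ _ rfl)
  have hdg : f₀ ≫ (yon S).map δ = pm f Δ hΔθ ≫ gR := by
    refine sqE.hom_ext ?_ ?_
    · rw [Category.assoc, ← Functor.map_comp, hδe, CategoryTheory.Functor.map_id, Category.comp_id, Category.assoc,
        hgRe, reassoc_of% hdS]
    · rw [Category.assoc, ← Functor.map_comp, hδμ, Functor.map_comp, reassoc_of% hs.fac, Category.assoc, hgRμ,
        pm_snd]
  have hδt : δ ≫ t' = 𝟙 N := (yon S).map_injective (hom_ext hnU (IsAlgSpace.yon_obj U) hνi (𝟙 _)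
    (by rw [Functor.map_comp, reassoc_of% hdg, ht₀, reassoc_of% hdT, CategoryTheory.Functor.map_id, Category.comp_id])
    (by rw [← Functor.map_comp, Category.assoc, htν, reassoc_of% hδμ, hΔt, Category.comp_id, Category.comp_id])
    (by rw [CategoryTheory.Functor.map_id, Category.id_comp, Category.comp_id]))
  obtain ⟨σ, hσt, hσs⟩ := hRlift sR tR sqR.w.symm
  let σE : E ⟶ E := pullback.lift t' (μ ≫ σ) (by rw [Category.assoc, hσs, htν])
  have hσe : σE ≫ e = t' := pullback.lift_fst _ _ _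
  have hσμ : σE ≫ μ = μ ≫ σ := pullback.lift_snd _ _ _
  have hσθ : (yon S).map σ ≫ θR = θR := by
    rw [← Category.assoc, ← Functor.map_comp, hσs, sqR.w]
  have hσS : pm f σ hσθ ≫ aS = aT := pm_comp f _ _ _ _ _ hσs
  have hσT : pm f σ hσθ ≫ aT = aS := pm_comp f _ _ _ _ _ hσt
  have hσg : gR ≫ (yon S).map σE = pm f σ hσθ ≫ gR := by
    refine sqE.hom_ext ?_ ?_
    · rw [Category.assoc, ← Functor.map_comp, hσe, ht₀, Category.assoc, hgRe, reassoc_of% hσS]
    · rw [Category.assoc, ← Functor.map_comp, hσμ, Functor.map_comp, reassoc_of% hgRμ, Category.assoc, hgRμ, pm_snd]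
  have hσt' : σE ≫ t' = e := extR sR _ _
    (by rw [Functor.map_comp, reassoc_of% hσg, ht₀, reassoc_of% hσT, hgRe])
    (by rw [Category.assoc, htν, reassoc_of% hσμ, hσt]) pullback.condition
  let R2 : Over S := pullback sR tR
  let u1 : R2 ⟶ R := pullback.fst sR tR
  let u2 : R2 ⟶ R := pullback.snd sR tR
  have hu2 : Etale u2.left := MorphismProperty.of_isPullback (P := @Etale)
    ((IsPullback.of_hasPullback sR tR).map (Over.forget S)) hsE
  obtain ⟨c, hct, hcs⟩ := hRlift (u1 ≫ tR) (u2 ≫ sR) (by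
    rw [Functor.map_comp, Category.assoc, sqR.w, ← Functor.map_comp_assoc, pullback.condition,
      Functor.map_comp, Category.assoc, sqR.w, Functor.map_comp, Category.assoc])
  let θ2 : (yon S).obj R2 ⟶ G := (yon S).map u2 ≫ θR
  have hu1θ : (yon S).map u1 ≫ θR = θ2 := by
    show (yon S).map u1 ≫ (yon S).map sR ≫ θ = (yon S).map u2 ≫ (yon S).map sR ≫ θ
    rw [← Functor.map_comp_assoc, pullback.condition, Functor.map_comp, Category.assoc, sqR.w]
  have hcθ : (yon S).map c ≫ θR = θ2 := by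
    show (yon S).map c ≫ (yon S).map sR ≫ θ = (yon S).map u2 ≫ (yon S).map sR ≫ θ
    rw [← Functor.map_comp_assoc, hcs, Functor.map_comp, Category.assoc]
  let E2 : Over S := pullback μ u2
  let e2 : E2 ⟶ E := pullback.fst μ u2
  let μ2 : E2 ⟶ R2 := pullback.snd μ u2
  have sqE2 : IsPullback ((yon S).map e2) ((yon S).map μ2) ((yon S).map μ) ((yon S).map u2) :=
    (IsPullback.of_hasPullback μ u2).map (yon S)
  let g2 : pullback f θ2 ⟶ (yon S).obj E2 := sqE2.lift (pm f u2 rfl ≫ gR) (pullback.snd f θ2)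
    (by rw [Category.assoc, hgRμ, pm_snd])
  have hg2e : g2 ≫ (yon S).map e2 = pm f u2 rfl ≫ gR := sqE2.lift_fst _ _ _
  have hg2μ : g2 ≫ (yon S).map μ2 = pullback.snd f θ2 := sqE2.lift_snd _ _ _
  have hn2 := (hsR.baseChange (IsAlgSpace.yon_obj R) (IsAlgSpace.yon_obj R2)
    ((isEtaleMor_yon_map_iff u2).2 hu2) (isPullback_pm f u2 rfl) sqE2 hg2μ hg2e).isRelNormalization
  let q1 : E2 ⟶ E := pullback.lift (e2 ≫ t') (μ2 ≫ u1) (by
    rw [Category.assoc, htν, reassoc_of% (pullback.condition : e2 ≫ μ = μ2 ≫ u2), Category.assoc,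
      pullback.condition])
  let q3 : E2 ⟶ E := pullback.lift (e2 ≫ e) (μ2 ≫ c) (by
    rw [Category.assoc, pullback.condition, reassoc_of% (pullback.condition : e2 ≫ μ = μ2 ≫ u2), Category.assoc, hcs])
  have hg1 : g2 ≫ (yon S).map q1 = pm f u1 hu1θ ≫ gR := by
    refine sqE.hom_ext ?_ ?_
    · rw [Category.assoc, ← Functor.map_comp, pullback.lift_fst, Functor.map_comp, reassoc_of% hg2e, ht₀,
        Category.assoc, hgRe, ← Category.assoc (pm f u2 _), ← Category.assoc (pm f u1 _)]
      congr 1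
      exact (pm_comp f _ _ _ _ (u2 ≫ tR) rfl).trans (pm_comp f _ _ _ _ (u2 ≫ tR) pullback.condition).symm
    · rw [Category.assoc, ← Functor.map_comp, pullback.lift_snd, Functor.map_comp, reassoc_of% hg2μ, Category.assoc,
        hgRμ, pm_snd]
  have hg3 : g2 ≫ (yon S).map q3 = pm f c hcθ ≫ gR := by
    refine sqE.hom_ext ?_ ?_
    · rw [Category.assoc, ← Functor.map_comp, pullback.lift_fst, Functor.map_comp, reassoc_of% hg2e, hgRe,
        Category.assoc, hgRe, ← Category.assoc (pm f u2 _), ← Category.assoc (pm f c _)]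
      congr 1
      exact (pm_comp f _ _ _ _ (u2 ≫ sR) rfl).trans (pm_comp f _ _ _ _ (u2 ≫ sR) hcs).symm
    · rw [Category.assoc, ← Functor.map_comp, pullback.lift_snd, Functor.map_comp, reassoc_of% hg2μ, Category.assoc,
        hgRμ, pm_snd]
  have hq : q3 ≫ t' = q1 ≫ t' := (yon S).map_injective (hom_ext hn2 (IsAlgSpace.yon_obj R2) hνi
    ((yon S).map (u1 ≫ tR))
    (by
      rw [Functor.map_comp, Functor.map_comp, reassoc_of% hg3, reassoc_of% hg1, ht₀, ← Category.assoc (pm f c _),
        ← Category.assoc (pm f u1 _)]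
      congr 1
      exact (pm_comp f _ _ _ _ (u1 ≫ tR) hct).trans (pm_comp f _ _ _ _ (u1 ≫ tR) rfl).symm)
    (by rw [← Functor.map_comp, ← Functor.map_comp, Category.assoc, htν, pullback.lift_snd_assoc, Category.assoc, hct])
    (by rw [← Functor.map_comp, ← Functor.map_comp, Category.assoc, htν, pullback.lift_snd_assoc, Category.assoc]))
  have heqv : IsEqvRel e t' := by
    refine ⟨fun T r r' h1 h2 => ?_, fun T => ⟨fun a => ⟨a ≫ δ, by rw [Category.assoc, hδt, Category.comp_id],
      by rw [Category.assoc, hδe, Category.comp_id]⟩, ?_, ?_⟩⟩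
    · refine pullback.hom_ext h2 (hRext _ _ ?_ ?_)
      · rw [Category.assoc, Category.assoc, ← htν, reassoc_of% h1]
      · rw [Category.assoc, Category.assoc, ← pullback.condition, reassoc_of% h2]
    · rintro a b ⟨r, rfl, rfl⟩
      exact ⟨r ≫ σE, by rw [Category.assoc, hσt'], by rw [Category.assoc, hσe]⟩
    · rintro a b d ⟨r1, rfl, hb⟩ ⟨r2, hb', rfl⟩
      have hcomp : (r1 ≫ μ) ≫ sR = (r2 ≫ μ) ≫ tR := by
        rw [Category.assoc, ← pullback.condition, reassoc_of% hb, ← hb', Category.assoc, htν, Category.assoc]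
      obtain ⟨r12, h12e, h12μ⟩ : ∃ r12 : T ⟶ E2, r12 ≫ e2 = r2 ∧ r12 ≫ μ2 = pullback.lift (r1 ≫ μ) (r2 ≫ μ) hcomp :=
        ⟨pullback.lift r2 (pullback.lift (r1 ≫ μ) (r2 ≫ μ) hcomp) (pullback.lift_snd _ _ _).symm,
          pullback.lift_fst _ _ _, pullback.lift_snd _ _ _⟩
      have hr1 : r12 ≫ q1 = r1 := by
        apply pullback.hom_ext
        · rw [Category.assoc, pullback.lift_fst, reassoc_of% h12e, hb', ← hb]
        · rw [Category.assoc, pullback.lift_snd, reassoc_of% h12μ, pullback.lift_fst]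
      exact ⟨r12 ≫ q3, by rw [Category.assoc, hq, reassoc_of% hr1],
        by rw [Category.assoc, pullback.lift_fst, reassoc_of% h12e]⟩
  let X' : Sp S := QuotSh.quot Scheme.fppfPrecoverage e t'
  let a : (yon S).obj N ⟶ X' := quotMap e t'
  have : Sheaf.IsLocallySurjective a := by
    have : Epi (QuotSh.quotπ Scheme.fppfPrecoverage e t') := by
      unfold QuotSh.quotπ
      infer_instance
    exact (CategoryTheory.Sheaf.isLocallySurjective_iff_epi a).2 (epi_comp _ _)
  have sqX : IsPullback ((yon S).map t') ((yon S).map e) a a := isPullback_quotMap heqv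
  obtain ⟨νX, hνX⟩ := exists_desc_of_kernelPair sqX ((yon S).map ν ≫ θ) (by
    rw [← Functor.map_comp_assoc, ← Functor.map_comp_assoc, htν, pullback.condition, Functor.map_comp,
      Functor.map_comp, Category.assoc, Category.assoc, sqR.w])
  let lam : (yon S).obj N ⟶ pullback νX θ := pullback.lift a ((yon S).map ν) hνX
  have : Mono lam := mono_of_yon_injective fun T n n' h => by
    obtain ⟨n, rfl⟩ := (yon S).map_surjective n
    obtain ⟨n', rfl⟩ := (yon S).map_surjective n'
    have ha := h =≫ pullback.fst νX θ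
    have hb := h =≫ pullback.snd νX θ
    simp only [lam, Category.assoc, pullback.lift_fst] at ha
    simp only [lam, Category.assoc, pullback.lift_snd, ← Functor.map_comp] at hb
    have hb' := (yon S).map_injective hb
    obtain ⟨r, hr⟩ := (yon S).map_surjective (sqX.lift _ _ ha)
    have h1 : r ≫ t' = n := (yon S).map_injective (by rw [Functor.map_comp, hr, sqX.lift_fst])
    have h2 : r ≫ e = n' := (yon S).map_injective (by rw [Functor.map_comp, hr, sqX.lift_snd])
    have h3 : r = n' ≫ δ := by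
      refine pullback.hom_ext (show r ≫ e = (n' ≫ δ) ≫ e by rw [Category.assoc, hδe, h2, Category.comp_id])
        (hRext _ _ ?_ ?_)
      · rw [Category.assoc, ← htν, reassoc_of% h1, hb', Category.assoc, Category.assoc, reassoc_of% hδμ, hΔt,
          Category.comp_id]
      · rw [Category.assoc, ← pullback.condition, reassoc_of% h2, Category.assoc, Category.assoc, reassoc_of% hδμ,
          hΔs, Category.comp_id]
    congr 1
    rw [← h1, h3, Category.assoc, hδt, Category.comp_id]
  have : Sheaf.IsLocallySurjective lam := isLocallySurjective_of_lifts lam fun T ξ => by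
    obtain ⟨T', φ, n, hφ, hn⟩ := exists_fppf_lift_of_locallySurjective a (ξ ≫ pullback.fst νX θ)
    obtain ⟨n, rfl⟩ := (yon S).map_surjective n
    obtain ⟨v, hv⟩ := (yon S).map_surjective (ξ ≫ pullback.snd νX θ)
    obtain ⟨r, hr1, hr2⟩ := hRlift (φ ≫ v) (n ≫ ν) (by
      rw [Functor.map_comp, Functor.map_comp, Category.assoc, Category.assoc, hv, ← hνX, reassoc_of% hn,
        Category.assoc, pullback.condition])
    let r' : T' ⟶ E := pullback.lift n r hr2.symm
    have he : r' ≫ e = n := pullback.lift_fst _ _ _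
    have hμ : r' ≫ μ = r := pullback.lift_snd _ _ _
    refine ⟨T', φ, (yon S).map (r' ≫ t'), hφ, pullback.hom_ext ?_ ?_⟩
    · rw [Category.assoc, pullback.lift_fst, Functor.map_comp, Category.assoc, sqX.w, ← Functor.map_comp_assoc,
        he, hn, Category.assoc]
    · rw [Category.assoc, pullback.lift_snd, ← Functor.map_comp, Category.assoc, htν, reassoc_of% hμ, hr1,
        Functor.map_comp, hv, Category.assoc]
  have : IsIso lam := isIso_of_mono_of_locallySurjective lam
  have sqN : IsPullback a ((yon S).map ν) νX θ :=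
    (IsPullback.of_hasPullback νX θ).of_iso (asIso lam).symm (Iso.refl _) (Iso.refl _) (Iso.refl _)
      (by simp [lam]) (by simp [lam]) (by simp) (by simp)
  have : MorphismProperty.DescendsAlong @IsIntegralHom (@Surjective ⊓ @Flat ⊓ @QuasiCompact) :=
    EtFound.fpqc_isIntegralHom
  have hint : IsIntegralMor νX := isIntegralMor_iff_repWith.2
    (repWith_of_etale_cover (P := @IsIntegralHom) (fun _ _ k (_ : IsIntegralHom k) => inferInstanceAs (IsAffineHom k))
      hθ hθs sqN ((repWith_yon_map_iff @IsIntegralHom ν).2 hν))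
  have hX' : IsAlgSpace X' := isAlgSpace_of_integral hint hG
  let pa : pullback f θ ⟶ F := pullback.fst f θ
  have : Epi pa := epi_of_etale_surjective (repWith_fst f hθ) (repWith_fst f hθs)
  have : EffectiveEpi pa := by
    have := IsRegularEpiCategory.regularEpiOfEpi pa
    infer_instance
  have hdesc : ∀ {Z : Sp S} (g₁ g₂ : Z ⟶ pullback f θ), g₁ ≫ pa = g₂ ≫ pa → g₁ ≫ f₀ ≫ a = g₂ ≫ f₀ ≫ a := by
    intro Z g₁ g₂ h
    let r := sqR.lift (g₁ ≫ pullback.snd f θ) (g₂ ≫ pullback.snd f θ) (by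
      rw [Category.assoc, Category.assoc, ← pullback.condition, ← Category.assoc, ← Category.assoc]
      exact congrArg (· ≫ f) h)
    let z : Z ⟶ pullback f θR := pullback.lift (g₂ ≫ pa) r (by
      rw [sqR.lift_snd_assoc, Category.assoc, Category.assoc, pullback.condition])
    have hz1 : z ≫ aT = g₁ := by
      apply pullback.hom_ext
      · rw [Category.assoc, pm_fst, pullback.lift_fst]; exact h.symm
      · rw [Category.assoc, pm_snd, pullback.lift_snd_assoc, sqR.lift_fst]
    have hz2 : z ≫ aS = g₂ := by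
      apply pullback.hom_ext
      · rw [Category.assoc, pm_fst, pullback.lift_fst]
      · rw [Category.assoc, pm_snd, pullback.lift_snd_assoc, sqR.lift_snd]
    have key : aT ≫ f₀ ≫ a = aS ≫ f₀ ≫ a := by
      rw [← reassoc_of% ht₀, sqX.w, reassoc_of% hgRe]
    rw [← hz1, ← hz2, Category.assoc, Category.assoc, key]
  let f' : F ⟶ X' := EffectiveEpi.desc pa (f₀ ≫ a) hdesc
  have hf' : pa ≫ f' = f₀ ≫ a := EffectiveEpi.fac pa _ _
  have hfac : f' ≫ νX = f := (cancel_epi pa).1 (by
    rw [reassoc_of% hf', hνX, reassoc_of% hs.fac, ← pullback.condition])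
  refine ⟨X', νX, f', hX', hfac, hint, fun T c h => h.1, fun x => ?_⟩
  obtain ⟨v, rfl⟩ := surjective_ofPt hθs x
  obtain ⟨T, c, hc, t, ht⟩ := hs.covers.covers (Points.ofScheme U v)
  refine ⟨T, c ≫ θ, Good.ofBaseChange (IsPullback.of_hasPullback f θ) sqN hs.fac hf'.symm (repWith_comp hc.1 hθ) hc,
    t, ?_⟩
  rw [← Points.map_ofPt, ht, Points.ofPt_eq_map_ofScheme]

end Groth.Agent.RelNorm
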