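import Groth.Agent.RelNorm.Affine
import Groth.Agent.RelNorm.Sigma
import Groth.Agent.RelNorm.Quot
import Groth.Agent.AlgSpDec.LqfQuot

/-!
# Existence of relative normalizations
-/

set_option autoImplicit false
set_option backward.isDefEq.respectTransparency false
set_option backward.isDefEq.respectTransparency.types false

universe u

open CategoryTheory CategoryTheory.Limits AlgebraicGeometry AlgSp Groth.Agent.AlgSpLib Groth.Agent.AlgSpDec
  Groth.Agent.AlgSpPts

namespace Groth.Agent.RelNorm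

variable {S : Scheme.{u}}

theorem isQuasiCompactMor_of_isPullback {F G F' G' : Sp S} {f : F ⟶ G} {g : G' ⟶ G} {fst : F' ⟶ F}
    {snd : F' ⟶ G'} (sq : IsPullback fst snd f g) (hf : IsQuasiCompactMor f) : IsQuasiCompactMor snd :=
  fun _ _ hZ hq k _ _ sq' => hf hZ hq (k ≫ g) _ _ (sq'.paste_horiz sq)

/-- Stable normalizations of quasi-compact quasi-separated morphisms exist. -/
theorem exists_stabNorm {F G : Sp S} (hF : IsAlgSpace F) (hG : IsAlgSpace G) (f : F ⟶ G)
    (hqc : IsQuasiCompactMor f) (hqs : IsQuasiSeparatedMor f) :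
    ∃ (X' : Sp S) (μ : X' ⟶ G) (f' : F ⟶ X'), IsAlgSpace X' ∧ StabNorm f μ f' := by
  obtain ⟨U₀, a, ha, has⟩ := hG.atlas
  let ι : Type u := U₀.left.affineOpens
  let T : ι → Over S := fun O => Over.mk (O.1.ι ≫ U₀.hom)
  let k : ∀ O, T O ⟶ U₀ := fun O => CategoryTheory.Over.homMk O.1.ι rfl
  obtain ⟨θ, hθ⟩ := exists_hom_sigma T fun O => (yon S).map (k O) ≫ a
  have hθe : RepWith @Etale θ := repWith_etale_sigma (hG.representable_from_yon θ) fun O => by
    rw [hθ]
    exact repWith_comp ((repWith_yon_map_iff _ _).2 (inferInstanceAs (Etale O.1.ι))) ha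
  have hθs : RepWith @Surjective θ := repWith_surjective_of_surjective hθe.rep fun x => by
    obtain ⟨v, rfl⟩ := surjective_ofPt has x
    obtain ⟨V, hV, hvV, -⟩ := exists_isAffineOpen_mem_and_subset (U := (⊤ : U₀.left.Opens)) (x := v) trivial
    refine ⟨Points.ofScheme _ ((sigmaι T ⟨V, hV⟩).left ⟨v, hvV⟩), ?_⟩
    rw [← Points.ofPt_eq_map_ofScheme, ← ofPt_comp, hθ, ofPt_comp]
    rfl
  have sqP := IsPullback.of_hasPullback f θ
  have hP : IsAlgSpace (pullback f θ) := isAlgSpace_pullback hF (IsAlgSpace.yon_obj _) hG f θ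
  obtain ⟨N, ν, f₀, hν, hs⟩ := exists_stabNorm_sigma (pullback.snd f θ) fun O => by
    have : IsAffine (T O).left := O.2
    have sq := IsPullback.of_hasPullback (pullback.snd f θ) ((yon S).map (sigmaι T O))
    exact exists_stabNorm_affine
      (isAlgSpace_pullback hP (IsAlgSpace.yon_obj _) (IsAlgSpace.yon_obj _) _ _) _
      (isQuasiCompactMor_of_isPullback sq (isQuasiCompactMor_of_isPullback sqP hqc))
      (isQuasiSeparatedMor_of_isPullback sq (isQuasiSeparatedMor_of_isPullback sqP hqs))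
  exact exists_stabNorm_of_atlas hG f hθe hθs hν hs

/-- Every normalization of a quasi-compact quasi-separated morphism is stable. -/
theorem stabNorm_of_isRelNormalization {F G X' : Sp S} (hF : IsAlgSpace F) (hG : IsAlgSpace G) {f : F ⟶ G}
    (hqc : IsQuasiCompactMor f) (hqs : IsQuasiSeparatedMor f) {μ : X' ⟶ G} {f' : F ⟶ X'}
    (hn : IsRelNormalization f μ f') : StabNorm f μ f' := by
  obtain ⟨X'', μ', f'', -, hs⟩ := exists_stabNorm hF hG f hqc hqs
  obtain ⟨e, he1, he2⟩ := exists_iso hG hn hs.isRelNormalization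
  exact hs.of_iso e he2 he1

theorem normAt_of_isRelNormalization {F G X' : Sp S} (hF : IsAlgSpace F) (hG : IsAlgSpace G) {f : F ⟶ G}
    (hqc : IsQuasiCompactMor f) (hqs : IsQuasiSeparatedMor f) {μ : X' ⟶ G} {f' : F ⟶ X'}
    (hn : IsRelNormalization f μ f') {W : Sp S} (hW : IsAlgSpace W) {w : W ⟶ G} (hw : IsEtaleMor w) :
    NormAt f μ f' w :=
  (stabNorm_of_isRelNormalization hF hG hqc hqs hn).normAt hG hW hw

end Groth.Agent.RelNorm
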