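import Groth.Agent.RelNorm.CodimZero
import Groth.Agent.AlgSpDec.AffineLocal
import Groth.Agent.AlgSpDec.OneFlat
import Groth.Agent.NagataLib.IntClosure

/-!
# Finiteness of normalizations over Nagata spaces
-/

set_option autoImplicit false
set_option backward.isDefEq.respectTransparency false
set_option backward.isDefEq.respectTransparency.types false

universe u

open CategoryTheory CategoryTheory.Limits AlgebraicGeometry AlgSp Groth.Agent.AlgSpLib Groth.Agent.AlgSpDec
  Groth.Agent.AlgSpPts

namespace Groth.Agent.RelNorm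

variable {S : Scheme.{u}}

theorem finite_of_injective {A C B : Type u} [CommRing A] [CommRing C] [CommRing B] (hA : CAlg.IsNagata A)
    [IsReduced B] (u₁ : A →+* C) (u₂ : C →+* B) (h1 : u₁.IsIntegral) (h2 : Function.Injective u₂)
    (h3 : (u₂.comp u₁).FiniteType) : u₁.Finite := by
  letI := u₁.toAlgebra
  letI := (u₂.comp u₁).toAlgebra
  haveI : Algebra.FiniteType A B := h3
  haveI := NagataLib.finite_integralClosure_of_reduced hA B
  haveI := hA.1
  let j : C →ₐ[A] B := ⟨u₂, fun _ => rfl⟩
  let i : C →ₗ[A] integralClosure A B :=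
    j.toLinearMap.codRestrict (integralClosure A B).toSubmodule fun x => IsIntegral.map j (h1 x)
  show Module.Finite A C
  exact Module.Finite.of_injective i fun x y h => h2 (congrArg Subtype.val h)

theorem isFinite_chart {F G X' : Sp S} (hF : IsAlgSpace F) (hG : IsAlgSpace G) {f : F ⟶ G}
    (hqc : IsQuasiCompactMor f) (hqs : IsQuasiSeparatedMor f) (hlft : LocP @LocallyOfFiniteType f)
    (hred : EtaleLocally (fun U => IsReduced U) F) {μ : X' ⟶ G} {f' : F ⟶ X'}
    (hn : IsRelNormalization f μ f') {T N : Over S} [IsAffine T.left] (hT : CAlg.IsNagata ↑Γ(T.left, ⊤))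
    {c : (yon S).obj T ⟶ G} (hc : RepWith @Etale c) {b : (yon S).obj N ⟶ X'} {ν : N ⟶ T}
    (sqN : IsPullback b ((yon S).map ν) μ c) : IsFinite ν.left := by
  have hνi : IsIntegralHom ν.left := (repWith_yon_map_iff @IsIntegralHom ν).1
    (isIntegralMor_iff_repWith.1 (isIntegralMor_of_isPullback sqN hn.2.1))
  have : IsAffine N.left := isAffine_of_isAffineHom ν.left
  have sqP := IsPullback.of_hasPullback f c
  have hPc : IsQuasiCompactSp (pullback f c) :=
    hqc (IsAlgSpace.yon_obj T) (isQuasiCompactSp_yon_affine T) c _ _ sqP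
  obtain ⟨V, θ, hV, hθ, hθs⟩ := CartierRegular.exists_affine_atlas
    (isAlgSpace_pullback hF (IsAlgSpace.yon_obj T) hG f c) hPc
  let g : pullback f c ⟶ (yon S).obj N := sqN.lift (pullback.fst f c ≫ f') (pullback.snd f c)
    (by rw [Category.assoc, hn.1, pullback.condition])
  have hn1 := normAt_of_isRelNormalization hF hG hqc hqs hn (IsAlgSpace.yon_obj T) (isEtaleMor_of_repWith hc)
    _ _ _ _ g sqP sqN (sqN.lift_snd _ _ _) (sqN.lift_fst _ _ _)
  obtain ⟨φ, hφ⟩ := (yon S).map_surjective (θ ≫ g)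
  have hinj := appTop_injective_of_isRelNormalization hn1 hθ hθs hφ
  have he : RepWith @Etale (θ ≫ pullback.fst f c) := repWith_comp hθ (repWith_fst f hc)
  have : IsReduced V.left := isReduced_chart hred he
  have : LocallyOfFiniteType (φ ≫ ν).left := hlft (θ ≫ pullback.fst f c) c (φ ≫ ν) he hc (by
    rw [Functor.map_comp, hφ, Category.assoc, Category.assoc, Category.assoc, pullback.condition]
    simp [g])
  have h3 := HasRingHomProperty.appTop (P := @LocallyOfFiniteType) (φ ≫ ν).left inferInstance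
  rw [Over.comp_left, Scheme.Hom.comp_appTop, CommRingCat.hom_comp] at h3
  rw [HasAffineProperty.iff_of_isAffine (P := @IsIntegralHom)] at hνi
  rw [HasAffineProperty.iff_of_isAffine (P := @IsFinite)]
  exact ⟨inferInstance, finite_of_injective hT _ _ hνi.2 hinj h3⟩

theorem isFiniteMor_of_nagata {F G X' : Sp S} (hF : IsAlgSpace F) (hG : IsAlgSpace G) {f : F ⟶ G}
    (hqc : IsQuasiCompactMor f) (hqs : IsQuasiSeparatedMor f) (hlft : LocP @LocallyOfFiniteType f)
    (hred : EtaleLocally (fun U => IsReduced U) F)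
    (hY : EtaleLocally (fun U => ∀ V : U.Opens, IsAffineOpen V → CAlg.IsNagata ↑Γ(U, V)) G) {μ : X' ⟶ G}
    {f' : F ⟶ X'} (hn : IsRelNormalization f μ f') : IsFiniteMor μ := by
  obtain ⟨U, a, ha, has, hN⟩ := hY
  have hμ := isIntegralMor_iff_repWith.1 hn.2.1
  let N := hμ.rep.pullback a
  let ν : N ⟶ U := hμ.rep.snd a
  have : MorphismProperty.DescendsAlong @IsFinite (@Surjective ⊓ @Flat ⊓ @QuasiCompact) := EtFound.fpqc_isFinite
  refine isFiniteMor_iff_repWith.2 (repWith_of_etale_cover (P := @IsFinite)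
    (fun _ _ k (_ : IsFinite k) => inferInstanceAs (IsAffineHom k)) ha has (hμ.rep.isPullback a)
    ((repWith_yon_map_iff @IsFinite ν).2 ?_))
  rw [IsZariskiLocalAtTarget.iff_of_iSup_eq_top (P := @IsFinite) (fun O : U.left.affineOpens => O.1)
    (iSup_affineOpens_eq_top _)]
  intro O
  let TO : Over S := Over.mk (O.1.ι ≫ U.hom)
  let inc : TO ⟶ U := CategoryTheory.Over.homMk O.1.ι rfl
  let NO : Over S := Over.mk ((ν.left ⁻¹ᵁ O.1).ι ≫ N.hom)
  let r : NO ⟶ TO := CategoryTheory.Over.homMk (ν.left ∣_ O.1) (by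
    change _ ≫ O.1.ι ≫ U.hom = _ ≫ N.hom
    rw [← Category.assoc, (isPullback_morphismRestrict ν.left O.1).w, Category.assoc, Over.w ν])
  let k : NO ⟶ N := CategoryTheory.Over.homMk (ν.left ⁻¹ᵁ O.1).ι rfl
  have sqk : IsPullback k r ν inc :=
    IsPullback.of_map (Over.forget S) (Over.OverMorphism.ext (isPullback_morphismRestrict ν.left O.1).w.symm)
      (isPullback_morphismRestrict ν.left O.1).flip
  have : IsAffine TO.left := O.2
  refine isFinite_chart hF hG hqc hqs hlft hred hn (T := TO) ?_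
    (c := (yon S).map inc ≫ a) (repWith_comp ((repWith_yon_map_iff _ _).2 (inferInstanceAs (Etale O.1.ι))) ha)
    ((sqk.map (yon S)).paste_horiz (hμ.rep.isPullback a))
  have := hN (O.1.ι ''ᵁ ⊤) (by rw [Scheme.Opens.ι_image_top]; exact O.2)
  exact this

end Groth.Agent.RelNorm
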