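import Groth.Agent.RelNorm.Glue
import Groth.Agent.AlgSpDec.MonoRep
import Groth.Agent.AlgSpLib.EtaleSmoothLocal

/-!
# Normalizations which are stable under etale base change
-/

set_option autoImplicit false
set_option backward.isDefEq.respectTransparency false
set_option backward.isDefEq.respectTransparency.types false

universe u

open CategoryTheory CategoryTheory.Limits AlgebraicGeometry AlgSp Groth.Agent.AlgSpLib Groth.Agent.AlgSpDec

namespace Groth.Agent.RelNorm

variable {S : Scheme.{u}} {F G X' : Sp S}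

/-- Every base change of `(f, ν, f')` along `w` is a normalization. -/
def NormAt (f : F ⟶ G) (ν : X' ⟶ G) (f' : F ⟶ X') {W : Sp S} (w : W ⟶ G) : Prop :=
  ∀ ⦃P N : Sp S⦄ (a : P ⟶ F) (p : P ⟶ W) (b : N ⟶ X') (μ : N ⟶ W) (g : P ⟶ N),
    IsPullback a p f w → IsPullback b μ ν w → g ≫ μ = p → g ≫ b = a ≫ f' → IsRelNormalization p μ g

variable {f : F ⟶ G} {ν : X' ⟶ G} {f' : F ⟶ X'}

theorem normAt_of_one {W : Sp S} {w : W ⟶ G} {P N : Sp S} {a : P ⟶ F} {p : P ⟶ W} {b : N ⟶ X'} {μ : N ⟶ W}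
    {g : P ⟶ N} (sq : IsPullback a p f w) (sq' : IsPullback b μ ν w) (hgμ : g ≫ μ = p)
    (hgb : g ≫ b = a ≫ f') (h : IsRelNormalization p μ g) : NormAt f ν f' w := by
  intro P₁ N₁ a₁ p₁ b₁ μ₁ g₁ sq₁ sq₁' h1 h2
  refine of_iso h (sq₁.isoIsPullback _ _ sq) (sq₁'.isoIsPullback _ _ sq') (sq₁.isoIsPullback_hom_snd _ _ sq)
    (sq₁'.isoIsPullback_hom_snd _ _ sq') (sq'.hom_ext ?_ ?_)
  · rw [Category.assoc, Category.assoc, IsPullback.isoIsPullback_hom_fst, hgb, h2,
      IsPullback.isoIsPullback_hom_fst_assoc]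
  · rw [Category.assoc, Category.assoc, IsPullback.isoIsPullback_hom_snd, hgμ, h1,
      IsPullback.isoIsPullback_hom_snd]

/-- The induced map on base changes. -/
noncomputable def gBC (hc : f' ≫ ν = f) {W : Sp S} (w : W ⟶ G) : pullback f w ⟶ pullback ν w :=
  pullback.lift (pullback.fst f w ≫ f') (pullback.snd f w) (by rw [Category.assoc, hc, pullback.condition])

theorem NormAt.isRelNormalization (hc : f' ≫ ν = f) {W : Sp S} {w : W ⟶ G} (h : NormAt f ν f' w) :
    IsRelNormalization (pullback.snd f w) (pullback.snd ν w) (gBC hc w) :=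
  h _ _ _ _ _ (IsPullback.of_hasPullback f w) (IsPullback.of_hasPullback ν w) (pullback.lift_snd _ _ _)
    (pullback.lift_fst _ _ _)

/-- Pasting: a base change of a base change. -/
theorem NormAt.baseChange {W : Sp S} {w : W ⟶ G} {P N : Sp S} {a : P ⟶ F} {p : P ⟶ W} {b : N ⟶ X'}
    {μ : N ⟶ W} {g : P ⟶ N} (sq : IsPullback a p f w) (sq' : IsPullback b μ ν w) (hgb : g ≫ b = a ≫ f')
    {W' : Sp S} {π : W' ⟶ W} (h : NormAt f ν f' (π ≫ w)) : NormAt p μ g π := by
  intro P' N' a' p' b' μ' g' sq₁ sq₁' h1 h2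
  exact h (a' ≫ a) p' (b' ≫ b) μ' g' (sq₁.paste_horiz sq) (sq₁'.paste_horiz sq') h1
    (by rw [reassoc_of% h2, hgb, Category.assoc])

/-- A normalization for a base change gives one for the composite. -/
theorem NormAt.ofBaseChange {W : Sp S} {w : W ⟶ G} {P N : Sp S} {a : P ⟶ F} {p : P ⟶ W} {b : N ⟶ X'}
    {μ : N ⟶ W} {g : P ⟶ N} (sq : IsPullback a p f w) (sq' : IsPullback b μ ν w) (hgμ : g ≫ μ = p)
    (hgb : g ≫ b = a ≫ f') {W' : Sp S} {π : W' ⟶ W} (h : NormAt p μ g π) : NormAt f ν f' (π ≫ w) :=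
  normAt_of_one ((IsPullback.of_hasPullback p π).paste_horiz sq) ((IsPullback.of_hasPullback μ π).paste_horiz sq')
    (pullback.lift_snd _ _ _) (by simp [gBC, hgb]) (h.isRelNormalization hgμ)

theorem normAt_id (h : IsRelNormalization f ν f') : NormAt f ν f' (𝟙 G) :=
  normAt_of_one (a := 𝟙 F) (b := 𝟙 X') (IsPullback.of_id_fst) (IsPullback.of_id_fst) h.1
    (by simp) h

theorem isRelNormalization_of_normAt_id (hc : f' ≫ ν = f) (h : NormAt f ν f' (𝟙 G)) : IsRelNormalization f ν f' :=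
  h (𝟙 F) f (𝟙 X') ν f' (IsPullback.of_id_fst) (IsPullback.of_id_fst) hc (by simp)

/-- An affine etale chart over all whose affine etale refinements the factorisation is a normalization. -/
def Good (f : F ⟶ G) (ν : X' ⟶ G) (f' : F ⟶ X') (T : Over S) (c : (yon S).obj T ⟶ G) : Prop :=
  RepWith @Etale c ∧ IsAffine T.left ∧
    ∀ ⦃V : Over S⦄ (π : V ⟶ T), IsAffine V.left → Etale π.left → NormAt f ν f' ((yon S).map π ≫ c)

/-- An integral factorisation which is a normalization on an etale covering by good charts. -/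
structure StabNorm (f : F ⟶ G) (ν : X' ⟶ G) (f' : F ⟶ X') : Prop where
  fac : f' ≫ ν = f
  integral : IsIntegralMor ν
  covers : Covers (Good f ν f')

theorem Good.normAt {T : Over S} {c : (yon S).obj T ⟶ G} (h : Good f ν f' T c) : NormAt f ν f' c := by
  have := h.2.2 (𝟙 T) h.2.1 (inferInstanceAs (Etale (𝟙 T.left)))
  rwa [CategoryTheory.Functor.map_id, Category.id_comp] at this

theorem good_agree (hc : f' ≫ ν = f) {Z : Sp S} {π : Z ⟶ G} (hπ : IsIntegralMor π) {γ : F ⟶ Z}
    {T : Over S} {c : (yon S).obj T ⟶ G} (hT : Good f ν f' T c) {T' : Over S} {c' : (yon S).obj T' ⟶ G}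
    (hT' : Good f ν f' T' c') {h : pullback ν c ⟶ Z} {h' : pullback ν c' ⟶ Z}
    (h1 : gBC hc c ≫ h = pullback.fst f c ≫ γ) (h2 : h ≫ π = pullback.snd ν c ≫ c)
    (h1' : gBC hc c' ≫ h' = pullback.fst f c' ≫ γ) (h2' : h' ≫ π = pullback.snd ν c' ≫ c')
    (V : Over S) (y : (yon S).obj V ⟶ pullback ν c) (y' : (yon S).obj V ⟶ pullback ν c')
    (e : y ≫ pullback.fst ν c = y' ≫ pullback.fst ν c') : y ≫ h = y' ≫ h' := by
  let W := hT.1.rep.pullback c'
  let q : W ⟶ T := hT.1.rep.fst' c'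
  let q' : W ⟶ T' := hT.1.rep.snd c'
  have sqW : IsPullback ((yon S).map q) ((yon S).map q') c c' := hT.1.rep.isPullback' c'
  have hq : Etale q.left := hT'.1.property c _ _ sqW.flip
  obtain ⟨m, hm⟩ := (yon S).map_surjective (y ≫ pullback.snd ν c)
  obtain ⟨m', hm'⟩ := (yon S).map_surjective (y' ≫ pullback.snd ν c')
  have hmm : (yon S).map m ≫ c = (yon S).map m' ≫ c' := by
    rw [hm, hm', Category.assoc, Category.assoc, ← pullback.condition, ← pullback.condition,
      reassoc_of% e]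
  obtain ⟨n, hn⟩ := (yon S).map_surjective (sqW.lift _ _ hmm)
  have hnq : n ≫ q = m := (yon S).map_injective (by rw [Functor.map_comp, hn, sqW.lift_fst])
  have hnq' : n ≫ q' = m' := (yon S).map_injective (by rw [Functor.map_comp, hn, sqW.lift_snd])
  refine hom_ext_of_openCover (Scheme.openCoverOfIsOpenCover V.left (fun O : W.left.affineOpens => n.left ⁻¹ᵁ O.1)
    (TopologicalSpace.IsOpenCover.comap (iSup_affineOpens_eq_top W.left) n.left.base.hom)) _ _ fun O => ?_
  let WO : Over S := Over.mk (O.1.ι ≫ W.hom)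
  let iO : WO ⟶ W := CategoryTheory.Over.homMk O.1.ι rfl
  let VO : Over S := Over.mk ((n.left ⁻¹ᵁ O.1).ι ≫ V.hom)
  let jO : VO ⟶ V := CategoryTheory.Over.homMk (n.left ⁻¹ᵁ O.1).ι rfl
  let nO : VO ⟶ WO := CategoryTheory.Over.homMk (n.left ∣_ O.1) (by
    change _ ≫ O.1.ι ≫ W.hom = _ ≫ V.hom
    rw [← Category.assoc, (isPullback_morphismRestrict n.left O.1).w, Category.assoc, Over.w n])
  have hnO : nO ≫ iO = jO ≫ n := Over.OverMorphism.ext (isPullback_morphismRestrict n.left O.1).w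
  show (yon S).map jO ≫ y ≫ h = (yon S).map jO ≫ y' ≫ h'
  let τ : (yon S).obj WO ⟶ G := (yon S).map (iO ≫ q) ≫ c
  have hτ : τ = (yon S).map (iO ≫ q') ≫ c' := by
    simp only [τ, Functor.map_comp, Category.assoc, sqW.w]
  have : Etale (iO ≫ q).left := inferInstanceAs (Etale (O.1.ι ≫ q.left))
  have hN := NormAt.isRelNormalization hc (hT.2.2 (iO ≫ q) O.2 this)
  change IsRelNormalization (pullback.snd f τ) (pullback.snd ν τ) (gBC hc τ) at hN
  let l : pullback ν τ ⟶ pullback ν c := pullback.lift (pullback.fst ν τ)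
    (pullback.snd ν τ ≫ (yon S).map (iO ≫ q)) (by rw [Category.assoc, ← pullback.condition])
  let l' : pullback ν τ ⟶ pullback ν c' := pullback.lift (pullback.fst ν τ)
    (pullback.snd ν τ ≫ (yon S).map (iO ≫ q')) (by rw [Category.assoc, ← hτ, pullback.condition])
  let a : pullback f τ ⟶ pullback f c := pullback.lift (pullback.fst f τ)
    (pullback.snd f τ ≫ (yon S).map (iO ≫ q)) (by rw [Category.assoc, ← pullback.condition])
  let a' : pullback f τ ⟶ pullback f c' := pullback.lift (pullback.fst f τ)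
    (pullback.snd f τ ≫ (yon S).map (iO ≫ q')) (by rw [Category.assoc, ← hτ, pullback.condition])
  have ha : gBC hc τ ≫ l = a ≫ gBC hc c := by
    apply pullback.hom_ext <;> simp [l, a, gBC]
  have ha' : gBC hc τ ≫ l' = a' ≫ gBC hc c' := by
    apply pullback.hom_ext <;> simp [l', a', gBC]
  have key : l ≫ h = l' ≫ h' := by
    refine RelNorm.hom_ext hN (IsAlgSpace.yon_obj WO) hπ τ ?_ ?_ ?_
    · rw [reassoc_of% ha, h1, reassoc_of% ha', h1']
      simp [a, a']
    · rw [Category.assoc, h2, pullback.lift_snd_assoc, Category.assoc]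
    · rw [Category.assoc, h2', pullback.lift_snd_assoc, Category.assoc, ← hτ]
  have hτy : ((yon S).map jO ≫ y ≫ pullback.fst ν c) ≫ ν = (yon S).map nO ≫ τ := by
    simp only [τ, Category.assoc, pullback.condition]
    rw [← reassoc_of% hm, ← Functor.map_comp_assoc, ← Functor.map_comp_assoc, ← Category.assoc nO iO q, hnO,
      Category.assoc, hnq]
  have e1 : pullback.lift ((yon S).map jO ≫ y ≫ pullback.fst ν c) ((yon S).map nO) hτy ≫ l =
      (yon S).map jO ≫ y := by
    apply pullback.hom_ext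
    · simp [l]
    · rw [Category.assoc, pullback.lift_snd, pullback.lift_snd_assoc, ← Functor.map_comp, ← Category.assoc nO,
        hnO, Category.assoc, hnq, Functor.map_comp, hm, Category.assoc]
  have e2 : pullback.lift ((yon S).map jO ≫ y ≫ pullback.fst ν c) ((yon S).map nO) hτy ≫ l' =
      (yon S).map jO ≫ y' := by
    apply pullback.hom_ext
    · simp [l', e]
    · rw [Category.assoc, pullback.lift_snd, pullback.lift_snd_assoc, ← Functor.map_comp, ← Category.assoc nO,
        hnO, Category.assoc, hnq', Functor.map_comp, hm', Category.assoc]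
  rw [← reassoc_of% e1, key, reassoc_of% e2]

/-- A factorisation which is stably a normalization on charts is a normalization. -/
theorem StabNorm.isRelNormalization (hs : StabNorm f ν f') : IsRelNormalization f ν f' := by
  refine ⟨hs.fac, hs.integral, fun Z hZ π γ hπ hγ => ?_⟩
  have hu : ∀ T c, Good f ν f' T c → ∃! h : pullback ν c ⟶ Z,
      gBC hs.fac c ≫ h = pullback.fst f c ≫ γ ∧ h ≫ π = pullback.snd ν c ≫ c :=
    fun T c hT => existsUnique_over (hT.normAt.isRelNormalization hs.fac) (IsAlgSpace.yon_obj T) hπ c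
      (by rw [Category.assoc, hγ, pullback.condition])
  choose h hh hhu using hu
  obtain ⟨H, hH⟩ := exists_glue hs.covers ν h fun T c hT T' c' hT' V y y' e =>
    good_agree hs.fac hπ hT hT' (hh T c hT).1 (hh T c hT).2 (hh T' c' hT').1 (hh T' c' hT').2 V y y' e
  refine ⟨H, ⟨hom_ext_of_covers hs.covers f fun T c hT => ?_, hom_ext_of_covers hs.covers ν fun T c hT => ?_⟩,
    fun H' hH' => hom_ext_of_covers hs.covers ν fun T c hT => ?_⟩
  · have : pullback.fst f c ≫ f' = gBC hs.fac c ≫ pullback.fst ν c := (pullback.lift_fst _ _ _).symm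
    rw [reassoc_of% this, hH T c hT, (hh T c hT).1]
  · rw [← Category.assoc, hH T c hT, (hh T c hT).2, pullback.condition]
  · rw [hH T c hT]
    refine hhu T c hT _ ⟨?_, ?_⟩
    · have : gBC hs.fac c ≫ pullback.fst ν c = pullback.fst f c ≫ f' := pullback.lift_fst _ _ _
      rw [reassoc_of% this, hH'.1]
    · rw [Category.assoc, hH'.2, pullback.condition]

theorem good_of_refinement {T O : Over S} {c : (yon S).obj T ⟶ G} (hT : Good f ν f' T c) (π : O ⟶ T)
    [Etale π.left] [IsAffine O.left] : Good f ν f' O ((yon S).map π ≫ c) :=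
  ⟨repWith_comp ((repWith_yon_map_iff _ _).2 ‹Etale π.left›) hT.1, ‹_›, fun V k hV hk => by
    rw [← Functor.map_comp_assoc]
    exact hT.2.2 (k ≫ π) hV (inferInstanceAs (Etale (k.left ≫ π.left)))⟩

theorem Good.ofBaseChange {W : Sp S} {w : W ⟶ G} {P N : Sp S} {a : P ⟶ F} {p : P ⟶ W} {b : N ⟶ X'}
    {μ : N ⟶ W} {g : P ⟶ N} (sq : IsPullback a p f w) (sq' : IsPullback b μ ν w) (hgμ : g ≫ μ = p)
    (hgb : g ≫ b = a ≫ f') {T : Over S} {c : (yon S).obj T ⟶ W} (hc : RepWith @Etale (c ≫ w))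
    (h : Good p μ g T c) : Good f ν f' T (c ≫ w) :=
  ⟨hc, h.2.1, fun V π hV hπ => by
    rw [← Category.assoc]
    exact NormAt.ofBaseChange sq sq' hgμ hgb (h.2.2 π hV hπ)⟩

/-- Stable normalizations pull back along etale morphisms. -/
theorem StabNorm.baseChange (hG : IsAlgSpace G) (hs : StabNorm f ν f') {W P N : Sp S} (hW : IsAlgSpace W)
    {w : W ⟶ G} (hw : IsEtaleMor w) {a : P ⟶ F} {p : P ⟶ W} {b : N ⟶ X'}
    {μ : N ⟶ W} {g : P ⟶ N} (sq : IsPullback a p f w) (sq' : IsPullback b μ ν w) (hgμ : g ≫ μ = p)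
    (hgb : g ≫ b = a ≫ f') : StabNorm p μ g := by
  refine ⟨hgμ, isIntegralMor_of_isPullback sq' hs.integral, fun T c h => h.1, fun x => ?_⟩
  obtain ⟨T, c, hT, t, ht⟩ := hs.covers.covers (Points.map w x)
  rw [Points.ofPt_eq_map_ofScheme] at ht
  have sqc := IsPullback.of_hasPullback c w
  have hR : IsAlgSpace (pullback c w) := isAlgSpace_pullback (IsAlgSpace.yon_obj T) hW hG c w
  obtain ⟨z, -, hz2⟩ := exists_point_of_isPullback sqc (x := Points.ofScheme T t) (y := x) ht
  obtain ⟨O, o, t₀, hO, ho, hot⟩ := exists_affine_chart_at hR z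
  obtain ⟨k, hk⟩ := (yon S).map_surjective (o ≫ pullback.fst c w)
  have hke : Etale k.left := by
    have := (isEtaleMor_of_isPullback sqc.flip hW hG (IsAlgSpace.yon_obj T) hw) o ho
    rw [← hk] at this
    exact (repWith_yon_map_iff _ _).1 this
  have hom : RepWith @Etale (o ≫ pullback.snd c w) := repWith_comp ho (repWith_snd w hT.1)
  refine ⟨O, o ≫ pullback.snd c w, ⟨hom, hO, fun V π hV hπ => ?_⟩, t₀, ?_⟩
  · refine NormAt.baseChange sq sq' hgb ?_
    rw [Category.assoc, Category.assoc, ← pullback.condition, ← reassoc_of% hk, ← Functor.map_comp_assoc]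
    exact hT.2.2 (π ≫ k) hV (inferInstanceAs (Etale (π.left ≫ k.left)))
  · rw [← Points.map_ofPt, hot, hz2]

theorem StabNorm.normAt (hG : IsAlgSpace G) (hs : StabNorm f ν f') {W : Sp S} (hW : IsAlgSpace W) {w : W ⟶ G}
    (hw : IsEtaleMor w) : NormAt f ν f' w := fun _ _ _ _ _ _ _ sq sq' h1 h2 =>
  (hs.baseChange hG hW hw sq sq' h1 h2).isRelNormalization

/-- Stable normalizations transport along isomorphisms of the normalization. -/
theorem StabNorm.of_iso {X'' : Sp S} {ν' : X'' ⟶ G} {f'' : F ⟶ X''} (hs : StabNorm f ν f') (e : X'' ≅ X')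
    (w : e.hom ≫ ν = ν') (w' : f'' ≫ e.hom = f') : StabNorm f ν' f'' := by
  have key : ∀ {W : Sp S} {τ : W ⟶ G}, NormAt f ν f' τ → NormAt f ν' f'' τ := by
    intro W τ h P N a p b μ g sq sq' h1 h2
    exact h a p (b ≫ e.hom) μ g sq (sq'.of_iso (Iso.refl _) e (Iso.refl _) (Iso.refl _) (by simp) (by simp)
      (by simp [w]) (by simp)) h1 (by rw [reassoc_of% h2, w'])
  exact ⟨by rw [← w, reassoc_of% w', hs.fac], by rw [← w]; exact isIntegralMor_comp (isIntegralMor_of_iso _) hs.integral,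
    fun T c h => h.1, fun x => by
      obtain ⟨T, c, hT, t, ht⟩ := hs.covers.covers x
      exact ⟨T, c, ⟨hT.1, hT.2.1, fun V π hV hπ => key (hT.2.2 π hV hπ)⟩, t, ht⟩⟩

end Groth.Agent.RelNorm
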