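import Groth.Agent.RelNorm.Main
import Groth.Agent.AlgSpDec.SchemeNormalization
import Groth.Agent.AlgSpDec.ImmCover
import Groth.Agent.AlgSpDec.LqfScheme
import Groth.Agent.AlgSpPts.FppfTarget
import Groth.Agent.AlgSpPts.SepDescent
import Groth.Agent.MorLib.IndQA
import Mathlib.AlgebraicGeometry.ZariskisMainTheorem

/-!
# Zariski's main theorem for algebraic spaces
-/

set_option autoImplicit false
set_option backward.isDefEq.respectTransparency false
set_option backward.isDefEq.respectTransparency.types false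

universe u

open CategoryTheory CategoryTheory.Limits AlgebraicGeometry AlgSp Groth.Agent.AlgSpLib Groth.Agent.AlgSpDec
  Groth.Agent.AlgSpPts

namespace Groth.Agent.RelNorm

variable {S : Scheme.{u}}

/-- A pullback of a qf separated morphism to a scheme is given by a qf separated morphism of schemes. -/
theorem props_of_pullback {F G : Sp S} {V U : Over S} (hF : IsAlgSpace F) (hG : IsAlgSpace G) {f : F ⟶ G}
    (hqf : LocP (@LocallyQuasiFinite ⊓ @LocallyOfFiniteType) f) (hqc : IsQuasiCompactMor f)
    (hsep : IsSeparatedMor f) {c : (yon S).obj U ⟶ G} {a : (yon S).obj V ⟶ F} {g : V ⟶ U}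
    (sq : IsPullback a ((yon S).map g) f c) :
    QuasiCompact g.left ∧ IsSeparated g.left ∧ LocallyQuasiFinite g.left ∧ LocallyOfFiniteType g.left :=
  ⟨quasiCompact_of_isQuasiCompactMor g (isQuasiCompactMor_of_isPullback sq hqc),
    (isSeparatedMor_yon_map_iff g).1 (isSeparatedMor_of_isPullback sq hsep),
    (locP_yon_map (locP_of_isPullback sq hF hG (IsAlgSpace.yon_obj U) hqf)).1,
    (locP_yon_map (locP_of_isPullback sq hF hG (IsAlgSpace.yon_obj U) hqf)).2⟩

theorem isQuasiAffineMor_of_qf_separated {F G : Sp S} (hF : IsAlgSpace F) (hG : IsAlgSpace G) {f : F ⟶ G}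
    (hqf : LocP (@LocallyQuasiFinite ⊓ @LocallyOfFiniteType) f) (hqc : IsQuasiCompactMor f)
    (hsep : IsSeparatedMor f) : IsQuasiAffineMor f := fun Z hZ g => by
  have hr := representable_of_lqf_separated hF hG f hqf hsep
  obtain ⟨h1, h2, h3, h4⟩ := props_of_pullback hF hG hqf hqc hsep (hr.isPullback g)
  have : IsAffine Z.left := hZ
  have : CompactSpace ↥(hr.pullback g).left := QuasiCompact.compactSpace_of_compactSpace (hr.snd g).left
  exact ⟨_, hr.snd g, hr.fst g, hr.isPullback g, MorLib.IQA.qa_of_locallyQuasiFinite (hr.snd g).left⟩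

theorem isOpenImmersion_and_qc {F G X' : Sp S} (hF : IsAlgSpace F) (hG : IsAlgSpace G) {f : F ⟶ G}
    (hqf : LocP (@LocallyQuasiFinite ⊓ @LocallyOfFiniteType) f) (hqc : IsQuasiCompactMor f)
    (hsep : IsSeparatedMor f) {μ : X' ⟶ G} {f' : F ⟶ X'} (hn : IsRelNormalization f μ f') :
    RepWith @IsOpenImmersion f' ∧ RepWith @QuasiCompact f' := by
  have hr := representable_of_lqf_separated hF hG f hqf hsep
  have hqs : IsQuasiSeparatedMor f :=
    repWith_mono (fun _ _ k (_ : IsClosedImmersion k) => inferInstanceAs (QuasiCompact k)) _ hsep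
  have hX' := isAlgSpace_of_integral hn.2.1 hG
  obtain ⟨U, θ, hθ, hθs⟩ := hG.atlas
  have hμ := isIntegralMor_iff_repWith.1 hn.2.1
  let g : hr.pullback θ ⟶ U := hr.snd θ
  let N := hμ.rep.pullback θ
  let ν : N ⟶ U := hμ.rep.snd θ
  have sqV : IsPullback (hr.fst θ) ((yon S).map g) f θ := hr.isPullback θ
  have sqN : IsPullback (hμ.rep.fst θ) ((yon S).map ν) μ θ := hμ.rep.isPullback θ
  obtain ⟨h1, h2, h3, h4⟩ := props_of_pullback hF hG hqf hqc hsep sqV
  let γ : (yon S).obj (hr.pullback θ) ⟶ (yon S).obj N :=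
    sqN.lift (hr.fst θ ≫ f') ((yon S).map g) (by rw [Category.assoc, hn.1, sqV.w])
  have hγb : γ ≫ hμ.rep.fst θ = hr.fst θ ≫ f' := sqN.lift_fst _ _ _
  have hγν : γ ≫ (yon S).map ν = (yon S).map g := sqN.lift_snd _ _ _
  have hn1 := normAt_of_isRelNormalization hF hG hqc hqs hn (IsAlgSpace.yon_obj U) (isEtaleMor_of_repWith hθ)
    _ _ _ _ γ sqV sqN hγν hγb
  let N' : Over S := Over.mk (g.left.fromNormalization ≫ U.hom)
  let ν' : N' ⟶ U := CategoryTheory.Over.homMk g.left.fromNormalization rfl
  let g' : hr.pullback θ ⟶ N' := CategoryTheory.Over.homMk g.left.toNormalization (by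
    simp [N', Over.w g])
  have hn2 := SchemeNormalization.isRelNormalization g g' ν' (Iso.refl _) (Category.comp_id _) (Category.id_comp _)
  obtain ⟨e, he, -⟩ := exists_iso (IsAlgSpace.yon_obj U) hn1 hn2
  have ho : RepWith @IsOpenImmersion γ := by
    rw [show γ = (yon S).map g' ≫ e.inv by rw [← he, Category.assoc, e.hom_inv_id, Category.comp_id]]
    exact repWith_comp ((repWith_yon_map_iff _ g').2 (inferInstanceAs (IsOpenImmersion g.left.toNormalization)))
      (repWith_of_isIso _ _)
  have hq : RepWith @QuasiCompact γ := by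
    rw [show γ = (yon S).map g' ≫ e.inv by rw [← he, Category.assoc, e.hom_inv_id, Category.comp_id]]
    exact repWith_comp ((repWith_yon_map_iff _ g').2 (inferInstanceAs (QuasiCompact g.left.toNormalization)))
      (repWith_of_isIso _ _)
  have hp : RepWith @Etale (hμ.rep.fst θ) := repWith_of_isPullback sqN.flip hθ
  have hps : RepWith @Surjective (hμ.rep.fst θ) := repWith_of_isPullback sqN.flip hθs
  have sq : IsPullback (hr.fst θ) γ f' (hμ.rep.fst θ) := by
    refine IsPullback.of_bot ?_ hγb.symm sqN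
    rw [hn.1, hγν]
    exact sqV
  have ho' := repWith_isOpenImmersion_of_etale_cover hp hps sq ho
  have := isLocallySurjective_of_etale_surjective hp hps
  have := isLocalAtTarget_fppf (@QuasiCompact : MorphismProperty Scheme.{u})
  exact ⟨ho', repWith_of_locallySurjective ho'.rep _ sq @QuasiCompact hq⟩

end Groth.Agent.RelNorm
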